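import Mathlib
import Groth.Agent.GrassClosed.Ideal

/-! The Grassmannian of a finite free module is a Zariski sheaf on affine schemes. -/

set_option autoImplicit false

universe u

noncomputable section

open TensorProduct Module
open Module.Grassmannian

namespace Groth.Agent.GrassRep

variable {R : Type u} [CommRing R] {M : Type u} [AddCommGroup M] [Module R M] {k : ℕ}

section Inc

variable {A C : Type u} [CommRing A] [Algebra R A] [CommRing C] [Algebra R C]

/-- The change of coefficients `A ⊗ M → C ⊗ M`. -/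
def inc (φ : A →ₐ[R] C) : A ⊗[R] M →ₗ[R] C ⊗[R] M := φ.toLinearMap.rTensor M

@[simp] theorem inc_tmul (φ : A →ₐ[R] C) (a : A) (m : M) : inc φ (a ⊗ₜ[R] m) = φ a ⊗ₜ[R] m := rfl

theorem inc_smul (φ : A →ₐ[R] C) (a : A) (x : A ⊗[R] M) : inc φ (a • x) = φ a • inc φ x := by
  induction x using TensorProduct.induction_on with
  | zero => simp
  | tmul b m => simp [TensorProduct.smul_tmul', inc_tmul, map_mul]
  | add x y hx hy => simp only [smul_add, map_add, hx, hy]

theorem inc_inc {D : Type u} [CommRing D] [Algebra R D] (φ : A →ₐ[R] C) (ψ : C →ₐ[R] D) (x : A ⊗[R] M) :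
    inc ψ (inc φ x) = inc (ψ.comp φ) x := by
  induction x using TensorProduct.induction_on with
  | zero => simp
  | tmul b m => simp [inc_tmul]
  | add x y hx hy => simp only [map_add, hx, hy]

theorem baseChangeMkQ_inc [Algebra A C] [IsScalarTower R A C] (N : Submodule A (A ⊗[R] M))
    (φ : A →ₐ[R] C) (hφ : ∀ a, φ a = algebraMap A C a) (x : A ⊗[R] M) :
    baseChangeMkQ C N (inc φ x) = (1 : C) ⊗ₜ[A] N.mkQ x := by
  induction x using TensorProduct.induction_on with
  | zero => simp
  | tmul a m =>
    rw [inc_tmul, baseChangeMkQ, LinearMap.comp_apply, LinearEquiv.coe_toLinearMap,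
      TensorProduct.AlgebraTensorModule.cancelBaseChange_symm_tmul, LinearMap.baseChange_tmul, hφ,
      show a ⊗ₜ[R] m = a • ((1 : A) ⊗ₜ[R] m) by rw [TensorProduct.smul_tmul', smul_eq_mul, mul_one],
      map_smul, ← TensorProduct.smul_tmul, Algebra.smul_def, mul_one]
  | add x y hx hy => simp only [map_add, TensorProduct.tmul_add, hx, hy]

theorem inc_mem_map_iff (φ : A →ₐ[R] C) (N : G(k, A ⊗[R] M; A)) (x : A ⊗[R] M) :
    inc φ x ∈ (Module.Grassmannian.map φ N).toSubmodule ↔
      ∀ d : Module.Dual A ((A ⊗[R] M) ⧸ N.toSubmodule), φ (d (N.toSubmodule.mkQ x)) = 0 := by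
  rw [Module.Grassmannian.map_toSubmodule]
  letI : Algebra A C := φ.toAlgebra
  haveI : IsScalarTower R A C := IsScalarTower.of_algebraMap_eq' <| IsScalarTower.algebraMap_eq R A C
  rw [LinearMap.mem_ker, baseChangeMkQ_inc N.toSubmodule φ (fun _ => rfl),
    GrassClosed.one_tmul_eq_zero_iff]
  rfl

theorem inc_mem_map (φ : A →ₐ[R] C) (N : G(k, A ⊗[R] M; A)) {x : A ⊗[R] M} (hx : x ∈ N.toSubmodule) :
    inc φ x ∈ (Module.Grassmannian.map φ N).toSubmodule := by
  rw [inc_mem_map_iff]
  intro d
  rw [show N.toSubmodule.mkQ x = 0 from (Submodule.Quotient.mk_eq_zero _).2 hx, map_zero, map_zero]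

/-- The base change of a point is spanned by the images of its elements. -/
theorem map_eq_span (φ : A →ₐ[R] C) (N : G(k, A ⊗[R] M; A)) :
    (Module.Grassmannian.map φ N).toSubmodule = Submodule.span C (inc φ '' N.toSubmodule) := by
  refine le_antisymm ?_ (Submodule.span_le.2 (by rintro _ ⟨x, hx, rfl⟩; exact inc_mem_map φ N hx))
  rw [Module.Grassmannian.map_toSubmodule]
  letI : Algebra A C := φ.toAlgebra
  haveI : IsScalarTower R A C := IsScalarTower.of_algebraMap_eq' <| IsScalarTower.algebraMap_eq R A C
  intro z hz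
  let cc := TensorProduct.AlgebraTensorModule.cancelBaseChange R A C C M
  obtain ⟨w, rfl⟩ := cc.surjective z
  have hw : N.toSubmodule.mkQ.lTensor C w = 0 := by
    have e : baseChangeMkQ C N.toSubmodule (cc w) = N.toSubmodule.mkQ.baseChange C w := by
      show N.toSubmodule.mkQ.baseChange C (cc.symm (cc w)) = _
      rw [LinearEquiv.symm_apply_apply]
    exact e.symm.trans hz
  obtain ⟨t, rfl⟩ := GrassClosed.exists_lTensor_ker C N.toSubmodule.mkQ N.toSubmodule.mkQ_surjective w hw
  clear hz hw
  induction t using TensorProduct.induction_on with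
  | zero => simp
  | tmul c y =>
    have e : cc (c ⊗ₜ[A] (y : A ⊗[R] M)) = c • inc φ (y : A ⊗[R] M) := by
      generalize (y : A ⊗[R] M) = v
      induction v using TensorProduct.induction_on with
      | zero => simp
      | tmul a m =>
        simp [cc, inc_tmul, TensorProduct.smul_tmul', Algebra.smul_def, RingHom.algebraMap_toAlgebra, mul_comm]
      | add x y hx hy => simp only [TensorProduct.tmul_add, map_add, smul_add, hx, hy]
    rw [LinearMap.lTensor_tmul, Submodule.subtype_apply, e]
    exact Submodule.smul_mem _ c (Submodule.subset_span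
      ⟨y, (Submodule.Quotient.mk_eq_zero _).1 y.2, rfl⟩)
  | add t t' ht ht' => simp only [map_add]; exact add_mem ht ht'

end Inc

section Loc

variable {A : Type u} [CommRing A] [Algebra R A]

/-- A basic localisation. -/
abbrev locHom (f : A) : A →ₐ[R] Localization.Away f := IsScalarTower.toAlgHom R A (Localization.Away f)

theorem exists_pow_smul_eq_inc (f : A) (z : Localization.Away f ⊗[R] M) :
    ∃ (m : ℕ) (x : A ⊗[R] M), algebraMap A (Localization.Away f) (f ^ m) • z = inc (locHom f) x := by
  induction z using TensorProduct.induction_on with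
  | zero => exact ⟨0, 0, by rw [map_zero, smul_zero]⟩
  | tmul c v =>
    obtain ⟨⟨a, ⟨_, m, rfl⟩⟩, e⟩ := IsLocalization.surj (Submonoid.powers f) c
    refine ⟨m, a ⊗ₜ[R] v, ?_⟩
    rw [inc_tmul, TensorProduct.smul_tmul', smul_eq_mul, mul_comm]
    exact congrArg (fun t => t ⊗ₜ[R] v) e
  | add z z' hz hz' =>
    obtain ⟨m, x, hx⟩ := hz
    obtain ⟨m', x', hx'⟩ := hz'
    refine ⟨m + m', f ^ m' • x + f ^ m • x', ?_⟩
    rw [map_add, inc_smul, inc_smul, ← hx, ← hx', smul_smul, smul_smul]
    simp only [pow_add, map_mul, map_pow, IsScalarTower.coe_toAlgHom']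
    rw [smul_add, mul_comm]

theorem exists_pow_mul_eq_zero (f a : A) (h : algebraMap A (Localization.Away f) a = 0) : ∃ p : ℕ, f ^ p * a = 0 := by
  obtain ⟨⟨_, p, rfl⟩, hp⟩ := (IsLocalization.map_eq_zero_iff (Submonoid.powers f) _ a).1 h
  exact ⟨p, hp⟩

theorem exists_pow_smul_mem (f : A) (N : G(k, A ⊗[R] M; A)) (x : A ⊗[R] M)
    (h : inc (locHom f) x ∈ (Module.Grassmannian.map (locHom f) N).toSubmodule) :
    ∃ p : ℕ, f ^ p • x ∈ N.toSubmodule := by
  classical
  rw [inc_mem_map_iff] at h
  obtain ⟨r, gen, hgen⟩ := Module.Finite.exists_fin (R := A) (M := Module.Dual A ((A ⊗[R] M) ⧸ N.toSubmodule))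
  choose p hp using fun i => exists_pow_mul_eq_zero f _ (h (gen i))
  refine ⟨∑ i, p i, (Submodule.Quotient.mk_eq_zero _).1 ((Module.forall_dual_apply_eq_zero_iff A _).1 fun d => ?_)⟩
  have hd : d ∈ Submodule.span A (Set.range gen) := hgen ▸ Submodule.mem_top
  induction hd using Submodule.span_induction with
  | mem d hd =>
    obtain ⟨i, rfl⟩ := hd
    rw [Submodule.Quotient.mk_smul, map_smul, smul_eq_mul,
      ← Finset.sum_erase_add _ _ (Finset.mem_univ i), pow_add, mul_assoc,
      show f ^ p i * gen i (Submodule.Quotient.mk x) = 0 from hp i, mul_zero]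
  | zero => simp
  | add d d' _ _ hd hd' => rw [LinearMap.add_apply, hd, hd', add_zero]
  | smul a d _ hd => rw [LinearMap.smul_apply, hd, smul_zero]

/-- Points are determined locally. -/
theorem mem_iff_forall_inc_mem {ι : Type*} (f : ι → A) (hf : Ideal.span (Set.range f) = ⊤)
    (N : G(k, A ⊗[R] M; A)) (x : A ⊗[R] M) :
    x ∈ N.toSubmodule ↔ ∀ i, inc (locHom (f i)) x ∈ (Module.Grassmannian.map (locHom (f i)) N).toSubmodule := by
  refine ⟨fun h i => inc_mem_map _ N h, fun h => ?_⟩
  refine (Submodule.Quotient.mk_eq_zero _).1 ((Module.forall_dual_apply_eq_zero_iff A _).1 fun d => ?_)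
  have hi : ∀ i, ∃ p : ℕ, f i ^ p * d (Submodule.Quotient.mk x) = 0 := fun i =>
    exists_pow_mul_eq_zero _ _ ((inc_mem_map_iff _ _ _).1 (h i) d)
  generalize d (Submodule.Quotient.mk x) = a at hi
  by_contra hne
  have htop : Ideal.torsionOf A A a ≠ ⊤ := fun h => hne (by simpa [Ideal.torsionOf_eq_top_iff] using h)
  obtain ⟨m, hm, hle⟩ := Ideal.exists_le_maximal _ htop
  obtain ⟨i, hi'⟩ : ∃ i, f i ∉ m := by
    by_contra hall
    push Not at hall
    exact hm.ne_top (top_le_iff.1 (hf ▸ Ideal.span_le.2 (by rintro _ ⟨i, rfl⟩; exact hall i)))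
  obtain ⟨p, hp⟩ := hi i
  exact hi' (hm.isPrime.mem_of_pow_mem p (hle ((Ideal.mem_torsionOf_iff _ _).2 hp)))

theorem eq_of_forall_map_eq {ι : Type*} (f : ι → A) (hf : Ideal.span (Set.range f) = ⊤)
    (N N' : G(k, A ⊗[R] M; A))
    (h : ∀ i, Module.Grassmannian.map (locHom (f i)) N = Module.Grassmannian.map (locHom (f i)) N') : N = N' := by
  refine Module.Grassmannian.ext (Submodule.ext fun x => ?_)
  rw [mem_iff_forall_inc_mem f hf, mem_iff_forall_inc_mem f hf]
  simp only [h]

/-- Glueing along a basic open cover. -/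
theorem exists_glue [Module.Free R M] [Module.Finite R M] {ι : Type u} [Finite ι] (f : ι → A)
    (hf : Ideal.span (Set.range f) = ⊤) (Ns : ∀ i, G(k, Localization.Away (f i) ⊗[R] M; Localization.Away (f i)))
    (hcompat : ∀ (i j : ι) (C : Type u) [CommRing C] [Algebra R C] (φ : Localization.Away (f i) →ₐ[R] C)
      (ψ : Localization.Away (f j) →ₐ[R] C), φ.comp (locHom (f i)) = ψ.comp (locHom (f j)) →
      Module.Grassmannian.map φ (Ns i) = Module.Grassmannian.map ψ (Ns j)) :
    ∃ N : G(k, A ⊗[R] M; A), ∀ i, Module.Grassmannian.map (locHom (f i)) N = Ns i := by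
  classical
  haveI := Fintype.ofFinite ι
  let N : Submodule A (A ⊗[R] M) :=
    { carrier := {x | ∀ i, inc (locHom (f i)) x ∈ (Ns i).toSubmodule}
      zero_mem' := fun i => by rw [map_zero]; exact zero_mem _
      add_mem' := fun {x y} hx hy i => by rw [map_add]; exact add_mem (hx i) (hy i)
      smul_mem' := fun a x hx i => by rw [inc_smul]; exact Submodule.smul_mem _ _ (hx i) }
  have hlift : ∀ i, ∀ y ∈ (Ns i).toSubmodule, ∃ (m : ℕ) (x : A ⊗[R] M), x ∈ N ∧
      algebraMap A (Localization.Away (f i)) (f i ^ m) • y = inc (locHom (f i)) x := by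
    intro i y hy
    obtain ⟨m, x, hx⟩ := exists_pow_smul_eq_inc (f i) y
    have hxi : inc (locHom (f i)) x ∈ (Ns i).toSubmodule := hx ▸ Submodule.smul_mem _ _ hy
    have hj : ∀ j, ∃ p : ℕ, inc (locHom (f j)) (f i ^ p • x) ∈ (Ns j).toSubmodule := by
      intro j
      let g := algebraMap A (Localization.Away (f j)) (f i)
      let ψ : Localization.Away (f j) →ₐ[R] Localization.Away g := locHom g
      have hu : IsUnit ((ψ.comp (locHom (f j))) (f i)) := IsLocalization.Away.algebraMap_isUnit g
      let φ : Localization.Away (f i) →ₐ[R] Localization.Away g :=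
        IsLocalization.liftAlgHom (M := Submonoid.powers (f i)) (f := ψ.comp (locHom (f j))) (by
          rintro ⟨_, q, rfl⟩
          rw [map_pow]
          exact hu.pow q)
      have hφ : φ.comp (locHom (f i)) = ψ.comp (locHom (f j)) := AlgHom.ext fun a =>
        IsLocalization.lift_eq _ _
      have h1 : inc ψ (inc (locHom (f j)) x) ∈ (Module.Grassmannian.map ψ (Ns j)).toSubmodule := by
        rw [← hcompat i j _ φ ψ hφ, inc_inc, ← hφ, ← inc_inc]
        exact inc_mem_map φ _ hxi
      obtain ⟨p, hp⟩ := exists_pow_smul_mem g (Ns j) _ h1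
      refine ⟨p, ?_⟩
      rw [inc_smul, map_pow]
      exact hp
    choose p hp using hj
    refine ⟨m + ∑ j, p j, f i ^ (∑ j, p j) • x, fun j => ?_, ?_⟩
    · rw [← Finset.sum_erase_add _ _ (Finset.mem_univ j), pow_add, mul_smul, inc_smul]
      exact Submodule.smul_mem _ _ (hp j)
    · rw [inc_smul, ← hx, smul_smul, pow_add, map_mul, mul_comm]
      rfl
  let Q := (A ⊗[R] M) ⧸ N
  haveI hloc : ∀ i, IsLocalizedModule (Submonoid.powers (f i)) (TensorProduct.mk A (Localization.Away (f i)) Q 1) :=
    fun i => (isLocalizedModule_iff_isBaseChange (Submonoid.powers (f i)) (Localization.Away (f i)) _).2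
      (TensorProduct.isBaseChange A Q _)
  have hspan : ∀ i, (LinearMap.ker (baseChangeMkQ (Localization.Away (f i)) N)) = (Ns i).toSubmodule := by
    intro i
    refine le_antisymm (fun z hz => ?_) (fun y hy => ?_)
    · obtain ⟨m, x, hx⟩ := exists_pow_smul_eq_inc (f i) z
      have h0 : (1 : Localization.Away (f i)) ⊗ₜ[A] N.mkQ x = 0 := by
        rw [← baseChangeMkQ_inc N (locHom (f i)) (fun _ => rfl) x, ← hx, map_smul, LinearMap.mem_ker.1 hz,
          smul_zero]
      obtain ⟨⟨_, p, rfl⟩, hp⟩ := (IsLocalizedModule.eq_zero_iff (Submonoid.powers (f i))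
        (TensorProduct.mk A (Localization.Away (f i)) Q 1)).1 h0
      have hmem : f i ^ p • x ∈ N := (Submodule.Quotient.mk_eq_zero _).1 hp
      have hu : IsUnit (algebraMap A (Localization.Away (f i)) (f i ^ p * f i ^ m)) := by
        rw [← pow_add]
        exact IsLocalization.map_units (Localization.Away (f i)) (⟨_, _, rfl⟩ : Submonoid.powers (f i))
      have h2 := hmem i
      rw [inc_smul, ← hx, smul_smul, IsScalarTower.coe_toAlgHom', ← map_mul] at h2
      obtain ⟨v, hv⟩ := hu.exists_left_inv
      have h3 := Submodule.smul_mem _ v h2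
      rwa [smul_smul, hv, one_smul] at h3
    · obtain ⟨m, x, hxN, hx⟩ := hlift i y hy
      obtain ⟨v, hv⟩ := (IsLocalization.map_units (Localization.Away (f i))
        (⟨_, m, rfl⟩ : Submonoid.powers (f i))).exists_left_inv
      have hy' : y = v • inc (locHom (f i)) x := by
        rw [← hx, smul_smul]
        exact ((congrArg (fun t => t • y) hv).trans (one_smul _ y)).symm
      rw [LinearMap.mem_ker, hy', map_smul, baseChangeMkQ_inc N (locHom (f i)) (fun _ => rfl),
        show N.mkQ x = 0 from (Submodule.Quotient.mk_eq_zero _).2 hxN, TensorProduct.tmul_zero, smul_zero]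
  let e : ∀ i, ((Localization.Away (f i) ⊗[R] M) ⧸ (Ns i).toSubmodule) ≃ₗ[Localization.Away (f i)]
      Localization.Away (f i) ⊗[A] Q := fun i =>
    (Submodule.quotEquivOfEq _ _ (hspan i).symm).trans (baseChangeMkQEquiv N)
  haveI : Module.Free A (A ⊗[R] M) := inferInstance
  haveI : Module.FinitePresentation A (A ⊗[R] M) := Module.finitePresentation_of_projective _ _
  have hproj : ∀ i, Module.Projective (Localization.Away (f i)) (Localization.Away (f i) ⊗[A] Q) := fun i =>
    Module.Projective.of_equiv (e i)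
  haveI hfp : Module.FinitePresentation A Q := by
    refine Module.finitePresentation_of_surjective N.mkQ N.mkQ_surjective ?_
    rw [Submodule.ker_mkQ]
    let Λ : Set A := Set.range f
    refine Submodule.of_localizationSpan' (Rₚ := fun g : Λ => Localization.Away g.1)
      (Mₚ := fun g : Λ => Localization.Away g.1 ⊗[A] (A ⊗[R] M)) Λ hf
      (fun g => TensorProduct.mk A (Localization.Away g.1) (A ⊗[R] M) 1) ?_
    rintro ⟨_, i, rfl⟩
    let cc := TensorProduct.AlgebraTensorModule.cancelBaseChange R A (Localization.Away (f i))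
      (Localization.Away (f i)) M
    have hfg : (Ns i).toSubmodule.FG := by
      obtain ⟨s, hs⟩ := Module.projective_lifting_property (Ns i).toSubmodule.mkQ LinearMap.id
        (Ns i).toSubmodule.mkQ_surjective
      have hr : (Ns i).toSubmodule = LinearMap.range (LinearMap.id - s.comp (Ns i).toSubmodule.mkQ) := by
        refine le_antisymm ?_ ?_
        · intro z hz
          refine ⟨z, ?_⟩
          rw [LinearMap.sub_apply, LinearMap.comp_apply,
            show (Ns i).toSubmodule.mkQ z = 0 from (Submodule.Quotient.mk_eq_zero _).2 hz, map_zero, sub_zero]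
          rfl
        · rintro _ ⟨z, rfl⟩
          rw [← Submodule.Quotient.mk_eq_zero]
          show (Ns i).toSubmodule.mkQ (z - s ((Ns i).toSubmodule.mkQ z)) = 0
          rw [map_sub, show (Ns i).toSubmodule.mkQ (s ((Ns i).toSubmodule.mkQ z)) = _ from LinearMap.congr_fun hs _]
          exact sub_self _
      rw [hr, LinearMap.range_eq_map]
      exact Module.Finite.fg_top.map _
    have hL : Submodule.localized' (Localization.Away (f i)) (Submonoid.powers (f i))
        (TensorProduct.mk A (Localization.Away (f i)) (A ⊗[R] M) 1) N = (Ns i).toSubmodule.map cc.symm.toLinearMap := by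
      ext z
      rw [Submodule.mem_map_equiv, LinearEquiv.symm_symm, ← hspan i, LinearMap.mem_ker]
      have hz : baseChangeMkQ (Localization.Away (f i)) N (cc z) = N.mkQ.lTensor _ z := by
        show N.mkQ.baseChange _ (cc.symm (cc z)) = _
        rw [LinearEquiv.symm_apply_apply]
        rfl
      rw [hz]
      constructor
      · rintro ⟨x, hx, s, rfl⟩
        obtain ⟨v, hv⟩ := (IsLocalization.map_units (Localization.Away (f i)) s).exists_left_inv
        have h1 := IsLocalizedModule.mk'_cancel' (TensorProduct.mk A (Localization.Away (f i)) (A ⊗[R] M) 1) x s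
        have h2 := congrArg (fun t => v • N.mkQ.lTensor (Localization.Away (f i)) t) h1
        rw [Submonoid.smul_def] at h2
        simp only [map_smul, TensorProduct.mk_apply, LinearMap.lTensor_tmul,
          show N.mkQ x = 0 from (Submodule.Quotient.mk_eq_zero _).2 hx, TensorProduct.tmul_zero, smul_zero] at h2
        rwa [← algebraMap_smul (Localization.Away (f i)) (s : A), smul_smul, hv, one_smul] at h2
      · intro hz0
        obtain ⟨⟨x, s⟩, hx⟩ := IsLocalizedModule.mk'_surjective (Submonoid.powers (f i))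
          (TensorProduct.mk A (Localization.Away (f i)) (A ⊗[R] M) 1) z
        obtain rfl : IsLocalizedModule.mk' _ x s = z := hx
        have h1 := congrArg (N.mkQ.lTensor (Localization.Away (f i)))
          (IsLocalizedModule.mk'_cancel' (TensorProduct.mk A (Localization.Away (f i)) (A ⊗[R] M) 1) x s)
        rw [Submonoid.smul_def, map_smul, hz0, smul_zero, TensorProduct.mk_apply, LinearMap.lTensor_tmul] at h1
        obtain ⟨t, ht⟩ := (IsLocalizedModule.eq_zero_iff (Submonoid.powers (f i))
          (TensorProduct.mk A (Localization.Away (f i)) Q 1)).1 h1.symm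
        refine ⟨(t : A) • x, (Submodule.Quotient.mk_eq_zero _).1 ht, t * s, ?_⟩
        exact IsLocalizedModule.mk'_cancel_left _ x t s
    rw [hL]
    exact hfg.map _
  haveI : Module.Flat A Q := Module.flat_of_localized_span (S := A) (M := Q) (Set.range f) hf fun g => by
    obtain ⟨_, i, rfl⟩ := g
    haveI := hproj i
    haveI : Module.Flat A (Localization.Away (f i) ⊗[A] Q) := Module.Flat.trans A (Localization.Away (f i)) _
    exact Module.Flat.of_linearEquiv (IsLocalizedModule.linearEquiv (Submonoid.powers (f i))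
      (LocalizedModule.mkLinearMap (Submonoid.powers (f i)) Q) (TensorProduct.mk A (Localization.Away (f i)) Q 1))
  refine ⟨{ toSubmodule := N
            finite_quotient := inferInstance
            projective_quotient := Module.Flat.projective_of_finitePresentation
            rankAtStalk_eq := fun p => ?_ }, fun i => Module.Grassmannian.ext ?_⟩
  · obtain ⟨i, hi⟩ : ∃ i, f i ∉ p.asIdeal := by
      by_contra hall
      push Not at hall
      exact p.2.ne_top (top_le_iff.1 (hf ▸ Ideal.span_le.2 (by rintro _ ⟨i, rfl⟩; exact hall i)))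
    obtain ⟨P, hP⟩ : p ∈ Set.range (PrimeSpectrum.comap (algebraMap A (Localization.Away (f i)))) := by
      rw [PrimeSpectrum.localization_away_comap_range (Localization.Away (f i)) (f i)]
      exact hi
    have h1 := Module.rankAtStalk_baseChange (R := A) (S := Localization.Away (f i)) (M := Q) P
    rw [← Module.rankAtStalk_eq_of_equiv (e i), (Ns i).rankAtStalk_eq P, hP] at h1
    exact h1.symm
  · rw [map_eq_span, ← hspan i]
    refine le_antisymm (Submodule.span_le.2 ?_) fun y hy => ?_
    · rintro _ ⟨x, hx, rfl⟩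
      rw [SetLike.mem_coe, LinearMap.mem_ker, baseChangeMkQ_inc N (locHom (f i)) (fun _ => rfl),
        show N.mkQ x = 0 from (Submodule.Quotient.mk_eq_zero _).2 hx, TensorProduct.tmul_zero]
    · rw [hspan i] at hy
      obtain ⟨m, x, hxN, hx⟩ := hlift i y hy
      obtain ⟨v, hv⟩ := (IsLocalization.map_units (Localization.Away (f i))
        (⟨_, m, rfl⟩ : Submonoid.powers (f i))).exists_left_inv
      have hy' : y = v • inc (locHom (f i)) x := by
        rw [← hx, smul_smul]
        exact ((congrArg (fun t => t • y) hv).trans (one_smul _ y)).symm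
      rw [hy']
      exact Submodule.smul_mem _ _ (Submodule.subset_span ⟨x, hxN, rfl⟩)

end Loc

end Groth.Agent.GrassRep
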