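import Mathlib
import Groth.Agent.GrassRep.Sheaf

/-! Standard charts of the Grassmannian of `R^n`. -/

set_option autoImplicit false

universe u

noncomputable section

open TensorProduct Module
open Module.Grassmannian

namespace Groth.Agent.GrassRep

variable {R : Type u} [CommRing R] {n k : ℕ}
variable {A C : Type u} [CommRing A] [Algebra R A] [CommRing C] [Algebra R C]

/-- The standard basis vectors of `A ⊗ R^n`. -/
def eb (A : Type u) [CommRing A] [Algebra R A] (i : Fin n) : A ⊗[R] (Fin n → R) :=
  (1 : A) ⊗ₜ[R] (Pi.single i 1)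

theorem span_eb : Submodule.span A (Set.range (eb (R := R) (n := n) A)) = ⊤ := by
  rw [eq_top_iff]
  intro z hz
  clear hz
  induction z using TensorProduct.induction_on with
  | zero => exact zero_mem _
  | tmul a m =>
    rw [pi_eq_sum_univ' m, TensorProduct.tmul_sum]
    refine Submodule.sum_mem _ fun i _ => ?_
    rw [show a ⊗ₜ[R] (m i • (Pi.single i 1 : Fin n → R)) = (m i • a) • eb A i by
      rw [eb, TensorProduct.smul_tmul', smul_eq_mul, mul_one, TensorProduct.smul_tmul]]
    exact Submodule.smul_mem _ _ (Submodule.subset_span ⟨i, rfl⟩)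
  | add x y hx hy => exact add_mem hx hy

theorem eb_ext {P : Type u} [AddCommGroup P] [Module A P] {F G : A ⊗[R] (Fin n → R) →ₗ[A] P}
    (h : ∀ i, F (eb A i) = G (eb A i)) : F = G :=
  LinearMap.ext_on_range span_eb h

/-- The linear map of a `k × n` matrix. -/
def lin (a : Matrix (Fin k) (Fin n) A) : A ⊗[R] (Fin n → R) →ₗ[A] (Fin k → A) :=
  LinearMap.liftBaseChange A (Fintype.linearCombination R fun i => a.col i)

@[simp] theorem lin_eb (a : Matrix (Fin k) (Fin n) A) (i : Fin n) : lin (R := R) a (eb A i) = a.col i := by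
  rw [lin, eb, LinearMap.liftBaseChange_tmul, one_smul]
  exact (Fintype.linearCombination_apply_single R _ i 1).trans (one_smul _ _)

/-- The tuple of chosen images in the quotient. -/
def chartMap (s : Fin k → Fin n) (N : Submodule A (A ⊗[R] (Fin n → R))) :
    (Fin k → A) →ₗ[A] (A ⊗[R] (Fin n → R)) ⧸ N :=
  Fintype.linearCombination A fun j => N.mkQ (eb A (s j))

@[simp] theorem chartMap_single (s : Fin k → Fin n) (N : Submodule A (A ⊗[R] (Fin n → R))) (j : Fin k) :
    chartMap s N (Pi.single j 1) = N.mkQ (eb A (s j)) :=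
  (Fintype.linearCombination_apply_single A _ j 1).trans (one_smul _ _)

/-- A point lies in the chart `s`. -/
def InChart (s : Fin k → Fin n) (N : G(k, A ⊗[R] (Fin n → R); A)) : Prop :=
  Function.Surjective (chartMap s N.toSubmodule)

theorem chartMap_bijective {s : Fin k → Fin n} {N : G(k, A ⊗[R] (Fin n → R); A)} (h : InChart s N) :
    Function.Bijective (chartMap s N.toSubmodule) := by
  refine ⟨?_, h⟩
  let u := chartMap s N.toSubmodule
  obtain ⟨t, ht⟩ := Module.projective_lifting_property u LinearMap.id h
  have htu : ∀ q, u (t q) = q := fun q => LinearMap.congr_fun ht q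
  let pr : (Fin k → A) →ₗ[A] LinearMap.ker u := (LinearMap.id - t.comp u).codRestrict _ fun z => by
    rw [LinearMap.mem_ker, LinearMap.sub_apply, map_sub]
    exact sub_eq_zero.2 (htu _).symm
  let e : (Fin k → A) ≃ₗ[A] LinearMap.ker u × ((A ⊗[R] (Fin n → R)) ⧸ N.toSubmodule) :=
    { pr.prod u with
      invFun := fun x => (x.1 : Fin k → A) + t x.2
      left_inv := fun z => sub_add_cancel z _
      right_inv := fun x => by
        have h2 : u ((x.1 : Fin k → A) + t x.2) = x.2 := by
          rw [map_add, LinearMap.mem_ker.1 x.1.2, htu, zero_add]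
        refine Prod.ext (Subtype.ext ?_) h2
        show (x.1 : Fin k → A) + t x.2 - t (u ((x.1 : Fin k → A) + t x.2)) = x.1
        rw [h2, add_sub_cancel_right] }
  haveI : Module.Finite A (LinearMap.ker u) := Module.Finite.of_surjective
    ((LinearMap.fst A _ _).comp e.toLinearMap) (Prod.fst_surjective.comp e.surjective)
  haveI : Module.Projective A (LinearMap.ker u) := Module.Projective.of_split
    (e.symm.toLinearMap.comp (LinearMap.inl A _ _)) ((LinearMap.fst A _ _).comp e.toLinearMap) (by ext x; simp)
  have h0 : Module.rankAtStalk (R := A) (LinearMap.ker u) = 0 := funext fun p => by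
    haveI : Nontrivial A := ⟨⟨1, 0, fun h => p.2.ne_top ((Ideal.eq_top_iff_one _).2 (h ▸ zero_mem _))⟩⟩
    have h1 := congrFun (Module.rankAtStalk_eq_of_equiv e) p
    rw [Module.rankAtStalk_prod, Pi.add_apply, N.rankAtStalk_eq, Module.rankAtStalk_eq_finrank_of_free,
      Module.finrank_pi] at h1
    simp only [Pi.natCast_apply, Fintype.card_fin, Nat.cast_id] at h1
    simp only [Pi.zero_apply]
    omega
  haveI : Subsingleton (LinearMap.ker u) := Module.rankAtStalk_eq_zero_iff_subsingleton.1 h0
  exact LinearMap.ker_eq_bot.1 Submodule.eq_bot_of_subsingleton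

/-- The matrices normalised on `s`. -/
def IsNormalised (s : Fin k → Fin n) (a : Matrix (Fin k) (Fin n) A) : Prop :=
  ∀ l, a.col (s l) = Pi.single l 1

theorem lin_surjective {s : Fin k → Fin n} {a : Matrix (Fin k) (Fin n) A} (ha : IsNormalised s a) :
    Function.Surjective (lin (R := R) a) := by
  intro c
  refine ⟨∑ l, c l • eb A (s l), ?_⟩
  rw [map_sum, pi_eq_sum_univ' c]
  exact Finset.sum_congr rfl fun l _ => by rw [map_smul, lin_eb, ha l, ← pi_eq_sum_univ' c]

/-- The point of a normalised matrix. -/
def ptMat {s : Fin k → Fin n} (a : Matrix (Fin k) (Fin n) A) (ha : IsNormalised s a) :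
    G(k, A ⊗[R] (Fin n → R); A) where
  toSubmodule := LinearMap.ker (lin a)
  finite_quotient := Module.Finite.equiv ((lin a).quotKerEquivOfSurjective (lin_surjective ha)).symm
  projective_quotient := Module.Projective.of_equiv ((lin a).quotKerEquivOfSurjective (lin_surjective ha)).symm
  rankAtStalk_eq p := by
    haveI : Nontrivial A := ⟨⟨1, 0, fun h => p.2.ne_top ((Ideal.eq_top_iff_one _).2 (h ▸ zero_mem _))⟩⟩
    rw [Module.rankAtStalk_eq_of_equiv ((lin a).quotKerEquivOfSurjective (lin_surjective ha)),
      Module.rankAtStalk_eq_finrank_of_free, Module.finrank_pi]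
    simp

theorem lin_chartMap {s t : Fin k → Fin n} (a : Matrix (Fin k) (Fin n) A) (ha : IsNormalised s a) (c : Fin k → A) :
    (lin (R := R) a).quotKerEquivOfSurjective (lin_surjective ha) (chartMap t (ptMat a ha).toSubmodule c) =
      (a.submatrix id t).mulVec c := by
  have : ((lin (R := R) a).quotKerEquivOfSurjective (lin_surjective ha)).toLinearMap.comp
      (chartMap t (ptMat a ha).toSubmodule) = (a.submatrix id t).mulVecLin := by
    refine (Pi.basisFun A (Fin k)).ext fun j => ?_
    rw [Pi.basisFun_apply, LinearMap.comp_apply]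
    erw [chartMap_single]
    show lin a (eb A (t j)) = _
    rw [lin_eb, Matrix.mulVecLin_apply, Matrix.mulVec_single_one]
    rfl
  exact LinearMap.congr_fun this c

theorem inChart_ptMat_iff {s : Fin k → Fin n} (t : Fin k → Fin n) (a : Matrix (Fin k) (Fin n) A)
    (ha : IsNormalised s a) :
    InChart t (ptMat (R := R) a ha) ↔ IsUnit (a.submatrix id t).det := by
  let e := (lin (R := R) a).quotKerEquivOfSurjective (lin_surjective ha)
  have hcomp : (fun c => e (chartMap t (ptMat (R := R) a ha).toSubmodule c)) = (a.submatrix id t).mulVec :=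
    funext (lin_chartMap a ha)
  rw [← Matrix.isUnit_iff_isUnit_det, ← Matrix.mulVec_surjective_iff_isUnit, ← hcomp]
  exact (Function.Surjective.of_comp_iff' e.bijective _).symm

theorem inChart_ptMat {s : Fin k → Fin n} (a : Matrix (Fin k) (Fin n) A) (ha : IsNormalised s a) :
    InChart s (ptMat (R := R) a ha) := by
  rw [inChart_ptMat_iff, show a.submatrix id s = 1 from ?_, Matrix.det_one]
  · exact isUnit_one
  ext i j
  have := congrFun (ha j) i
  simp only [Matrix.col_apply, Pi.single_apply] at this
  rw [Matrix.submatrix_apply, id_eq, this, Matrix.one_apply]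

theorem ptMat_injective {s : Fin k → Fin n} {a a' : Matrix (Fin k) (Fin n) A} {ha : IsNormalised s a}
    {ha' : IsNormalised s a'} (h : ptMat (R := R) a ha = ptMat a' ha') : a = a' := by
  ext j i
  have hmem : eb A i - ∑ l, a l i • eb A (s l) ∈ (ptMat (R := R) a ha).toSubmodule := by
    show lin a _ = 0
    rw [map_sub, map_sum, lin_eb]
    simp only [map_smul, lin_eb]
    rw [show (∑ l, a l i • a.col (s l)) = a.col i from
      (Finset.sum_congr rfl fun l _ => by rw [ha l]; rfl).trans (pi_eq_sum_univ' (a.col i)).symm, sub_self]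
  rw [h] at hmem
  have h2 : lin a' (eb A i - ∑ l, a l i • eb A (s l)) = (0 : Fin k → A) := hmem
  rw [map_sub, map_sum, lin_eb] at h2
  simp only [map_smul, lin_eb] at h2
  rw [show (∑ l, a l i • a'.col (s l)) = a.col i from
    (Finset.sum_congr rfl fun l _ => by rw [ha' l]; rfl).trans (pi_eq_sum_univ' (a.col i)).symm, sub_eq_zero] at h2
  exact (congrFun h2 j).symm

theorem exists_ptMat {s : Fin k → Fin n} {N : G(k, A ⊗[R] (Fin n → R); A)} (h : InChart s N) :
    ∃ (a : Matrix (Fin k) (Fin n) A) (ha : IsNormalised s a), ptMat a ha = N := by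
  let e := LinearEquiv.ofBijective _ (chartMap_bijective h)
  let a : Matrix (Fin k) (Fin n) A := Matrix.of fun j i => e.symm (N.toSubmodule.mkQ (eb A i)) j
  have hcol : ∀ i, a.col i = e.symm (N.toSubmodule.mkQ (eb A i)) := fun i => rfl
  have ha : IsNormalised s a := fun l => by
    rw [hcol, LinearEquiv.symm_apply_eq]
    exact (chartMap_single s N.toSubmodule l).symm
  refine ⟨a, ha, Module.Grassmannian.ext ?_⟩
  show LinearMap.ker (lin a) = N.toSubmodule
  rw [show lin a = e.symm.toLinearMap.comp N.toSubmodule.mkQ from eb_ext fun i => by rw [lin_eb, hcol]; rfl,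
    LinearEquiv.ker_comp, Submodule.ker_mkQ]

theorem isNormalised_map (φ : A →ₐ[R] C) {s : Fin k → Fin n} {a : Matrix (Fin k) (Fin n) A}
    (ha : IsNormalised s a) : IsNormalised s (a.map φ) := fun l => by
  ext j
  rw [Matrix.col_apply, Matrix.map_apply, ← Matrix.col_apply a, ha l]
  simp only [Pi.single_apply]
  split <;> simp

theorem inc_eb (φ : A →ₐ[R] C) (i : Fin n) : inc φ (eb A i) = eb C i := by
  rw [eb, inc_tmul, map_one]
  rfl

theorem map_ptMat (φ : A →ₐ[R] C) {s : Fin k → Fin n} (a : Matrix (Fin k) (Fin n) A) (ha : IsNormalised s a) :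
    Module.Grassmannian.map φ (ptMat a ha) = ptMat (a.map φ) (isNormalised_map φ ha) := by
  refine Module.Grassmannian.ext ?_
  have hinc : ∀ x, lin (R := R) (a.map φ) (inc φ x) = fun j => φ (lin (R := R) a x j) := by
    intro x
    have hx : x ∈ Submodule.span A (Set.range (eb (R := R) (n := n) A)) := (by rw [span_eb]; exact Submodule.mem_top)
    induction hx using Submodule.span_induction with
    | mem x hx =>
      obtain ⟨i, rfl⟩ := hx
      rw [inc_eb, lin_eb, lin_eb]
      rfl
    | zero => ext; simp
    | add x y _ _ hx hy => ext j; simp [hx, hy]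
    | smul b x _ hx => ext j; simp [inc_smul, hx]
  rw [map_eq_span]
  refine le_antisymm (Submodule.span_le.2 ?_) fun z hz => ?_
  · rintro _ ⟨x, hx, rfl⟩
    show lin (a.map φ) (inc φ x) = 0
    rw [hinc]
    ext j
    rw [show lin a x = 0 from hx]
    simp
  · -- subtract the normalised part
    let P : C ⊗[R] (Fin n → R) →ₗ[C] C ⊗[R] (Fin n → R) :=
      LinearMap.id - (Fintype.linearCombination C fun l => eb C (s l)).comp (lin (a.map φ))
    have hz' : P z = z := by
      show z - Fintype.linearCombination C _ (lin (a.map φ) z) = z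
      rw [show lin (a.map φ) z = 0 from hz, map_zero, sub_zero]
    rw [← hz']
    have hmem : z ∈ Submodule.span C (Set.range (eb (R := R) (n := n) C)) := (by rw [span_eb]; exact Submodule.mem_top)
    clear hz hz'
    induction hmem using Submodule.span_induction with
    | mem z hz =>
      obtain ⟨i, rfl⟩ := hz
      refine Submodule.subset_span ⟨eb A i - ∑ l, a l i • eb A (s l), ?_, ?_⟩
      · show lin a _ = 0
        rw [map_sub, map_sum, lin_eb]
        simp only [map_smul, lin_eb]
        rw [show (∑ l, a l i • a.col (s l)) = a.col i from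
          (Finset.sum_congr rfl fun l _ => by rw [ha l]; rfl).trans (pi_eq_sum_univ' (a.col i)).symm, sub_self]
      · simp only [P, LinearMap.sub_apply, LinearMap.id_apply, LinearMap.comp_apply]
        rw [map_sub, map_sum, inc_eb, lin_eb, Fintype.linearCombination_apply]
        simp only [inc_smul, inc_eb]
        rfl
    | zero => rw [map_zero]; exact zero_mem _
    | add x y _ _ hx hy => rw [map_add]; exact add_mem hx hy
    | smul b x _ hx => rw [map_smul]; exact Submodule.smul_mem _ b hx

theorem inChart_map (φ : A →ₐ[R] C) {s : Fin k → Fin n} {N : G(k, A ⊗[R] (Fin n → R); A)} (h : InChart s N) :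
    InChart s (Module.Grassmannian.map φ N) := by
  obtain ⟨a, ha, rfl⟩ := exists_ptMat h
  rw [map_ptMat]
  exact inChart_ptMat _ _

theorem exists_inChart_away (N : G(k, A ⊗[R] (Fin n → R); A)) (p : PrimeSpectrum A) :
    ∃ f ∉ p.asIdeal, ∃ s : Fin k → Fin n, Function.Injective s ∧
      InChart s (Module.Grassmannian.map (locHom f) N) := by
  classical
  let Q := (A ⊗[R] (Fin n → R)) ⧸ N.toSubmodule
  let K := p.asIdeal.ResidueField
  let v : Fin n → K ⊗[A] Q := fun i => (1 : K) ⊗ₜ[A] N.toSubmodule.mkQ (eb A i)
  have hv : Submodule.span K (Set.range v) = ⊤ := by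
    rw [eq_top_iff]
    intro z hz
    clear hz
    induction z using TensorProduct.induction_on with
    | zero => exact zero_mem _
    | tmul c q =>
      obtain ⟨x, rfl⟩ := N.toSubmodule.mkQ_surjective q
      rw [show c ⊗ₜ[A] N.toSubmodule.mkQ x = c • ((1 : K) ⊗ₜ[A] N.toSubmodule.mkQ x) by
        rw [TensorProduct.smul_tmul', smul_eq_mul, mul_one]]
      refine Submodule.smul_mem _ _ ?_
      have hx : x ∈ Submodule.span A (Set.range (eb (R := R) (n := n) A)) := (by rw [span_eb]; exact Submodule.mem_top)
      induction hx using Submodule.span_induction with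
      | mem x hx => obtain ⟨i, rfl⟩ := hx; exact Submodule.subset_span ⟨i, rfl⟩
      | zero => rw [map_zero, TensorProduct.tmul_zero]; exact zero_mem _
      | add x y _ _ hx hy => rw [map_add, TensorProduct.tmul_add]; exact add_mem hx hy
      | smul b x _ hx =>
        rw [map_smul, TensorProduct.tmul_smul, ← algebraMap_smul K b]
        exact Submodule.smul_mem _ _ hx
    | add x y hx hy => exact add_mem hx hy
  have hrank : Module.finrank K (K ⊗[A] Q) = k :=
    (Module.rankAtStalk_eq (M := Q) p).symm.trans (N.rankAtStalk_eq p)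
  obtain ⟨b, hbv, hbspan, hbli⟩ := exists_linearIndependent K (Set.range v)
  have hfin : b.Finite := (Set.finite_range v).subset hbv
  haveI := hfin.fintype
  let B : Module.Basis b K (K ⊗[A] Q) := Module.Basis.mk hbli (by
    simp only [Subtype.range_coe_subtype, Set.setOf_mem_eq, hbspan, hv, le_refl])
  have hcard : Fintype.card b = k := (Module.finrank_eq_card_basis B).symm.trans hrank
  let el := (Fintype.equivFinOfCardEq hcard).symm
  choose pre hpre using fun x : b => hbv x.2
  let s : Fin k → Fin n := fun j => pre (el j)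
  have hs : Function.Injective s := fun j j' h => by
    apply el.injective
    apply Subtype.ext
    rw [← hpre (el j), ← hpre (el j')]
    exact congrArg v h
  let u := chartMap s N.toSubmodule
  let Q' := Q ⧸ LinearMap.range u
  have hQ' : p ∉ Module.support A Q' := by
    rw [Module.mem_support_iff_nontrivial_residueField_tensorProduct, not_nontrivial_iff_subsingleton]
    refine subsingleton_iff.2 fun x y => ?_
    suffices h0 : ∀ z : K ⊗[A] Q', z = 0 by rw [h0 x, h0 y]
    intro z
    obtain ⟨w, rfl⟩ := LinearMap.baseChange_surjective K (LinearMap.range u).mkQ_surjective z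
    have hw : w ∈ Submodule.span K (Set.range fun j => v (s j)) := by
      have e : (Set.range fun j => v (s j)) = b := by
        ext x
        constructor
        · rintro ⟨j, rfl⟩
          show v (pre (el j)) ∈ b
          rw [hpre]
          exact (el j).2
        · intro hx
          exact ⟨el.symm ⟨x, hx⟩, by show v (pre (el (el.symm ⟨x, hx⟩))) = x; rw [hpre, Equiv.apply_symm_apply]⟩
      rw [e, hbspan, hv]
      exact Submodule.mem_top
    induction hw using Submodule.span_induction with
    | mem x hx =>
      obtain ⟨j, rfl⟩ := hx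
      show (LinearMap.range u).mkQ.baseChange K ((1 : K) ⊗ₜ[A] N.toSubmodule.mkQ (eb A (s j))) = 0
      rw [LinearMap.baseChange_tmul, show (LinearMap.range u).mkQ (N.toSubmodule.mkQ (eb A (s j))) = 0 from
        (Submodule.Quotient.mk_eq_zero _).2 ⟨_, chartMap_single s N.toSubmodule j⟩, TensorProduct.tmul_zero]
    | zero => rw [map_zero]
    | add x y _ _ hx hy => rw [map_add, hx, hy, add_zero]
    | smul c x _ hx => rw [map_smul, hx, smul_zero]
  rw [Module.notMem_support_iff'] at hQ'
  choose r hr hr0 using fun i : Fin n => hQ' ((LinearMap.range u).mkQ (N.toSubmodule.mkQ (eb A i)))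
  refine ⟨∏ i, r i, fun h => ?_, s, hs, ?_⟩
  · obtain ⟨i, -, hi⟩ := (p.2.prod_mem_iff).1 h
    exact hr i hi
  set f := ∏ i, r i
  intro q
  have hq : q ∈ Submodule.span (Localization.Away f) (Set.range fun i => (Module.Grassmannian.map (locHom f) N).toSubmodule.mkQ
      (eb (R := R) (n := n) (Localization.Away f) i)) := by
    rw [show (fun i => (Module.Grassmannian.map (locHom f) N).toSubmodule.mkQ (eb (Localization.Away f) i)) =
      (Module.Grassmannian.map (locHom f) N).toSubmodule.mkQ ∘ eb (Localization.Away f) from rfl,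
      Set.range_comp, Submodule.span_image, span_eb, Submodule.map_top, LinearMap.range_eq_top.2
        (Submodule.mkQ_surjective _)]
    exact Submodule.mem_top
  refine (Submodule.span_le (p := LinearMap.range (chartMap s _))).2 ?_ hq
  rintro _ ⟨i, rfl⟩
  obtain ⟨t, ht⟩ := Finset.dvd_prod_of_mem r (Finset.mem_univ i)
  have hi : f • N.toSubmodule.mkQ (eb A i) ∈ LinearMap.range u := by
    rw [show f = t * r i from ht.trans (mul_comm _ _), mul_smul]
    refine Submodule.smul_mem _ _ ((Submodule.Quotient.mk_eq_zero _).1 ?_)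
    rw [Submodule.Quotient.mk_smul]
    exact hr0 i
  obtain ⟨c, hc⟩ := hi
  have hmem : f • eb A i - ∑ l, c l • eb A (s l) ∈ N.toSubmodule := by
    refine (Submodule.Quotient.mk_eq_zero _).1 ?_
    show N.toSubmodule.mkQ _ = 0
    rw [map_sub, map_sum, map_smul, ← hc, sub_eq_zero]
    simp [u, chartMap, Fintype.linearCombination_apply]
  have h2 := inc_mem_map (locHom f) N hmem
  rw [← Submodule.Quotient.mk_eq_zero] at h2
  change (Module.Grassmannian.map (locHom f) N).toSubmodule.mkQ (inc (locHom f) _) = 0 at h2
  simp only [map_sub, map_sum, inc_smul, inc_eb, map_smul, sub_eq_zero] at h2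
  obtain ⟨v', hv'⟩ := (IsLocalization.Away.algebraMap_isUnit (S := Localization.Away f) f).exists_left_inv
  refine ⟨v' • fun l => locHom (R := R) f (c l), ?_⟩
  rw [map_smul, chartMap, Fintype.linearCombination_apply, ← h2, smul_smul,
    show v' * locHom (R := R) f f = 1 from hv', one_smul]

end Groth.Agent.GrassRep
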