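import Mathlib
import Groth.Agent.GrassClosed.Points
import Groth.Agent.GrassRep.Charts

/-! The glueing of the standard charts of the Grassmannian of `R^n`. -/

set_option autoImplicit false

universe u

noncomputable section

open TensorProduct CategoryTheory CategoryTheory.Limits AlgebraicGeometry Module MvPolynomial
open Module.Grassmannian

namespace Groth.Agent.GrassRep

open GrassClosed

variable {R : Type u} [CommRing R] {n k : ℕ}

/-- `Spec` of an algebra map as a morphism over `Spec R`. -/
def ptAlg {A B : CommAlgCat.{u} R} (φ : B →ₐ[R] A) : SpA A ⟶ SpA B :=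
  Over.homMk (Spec.map (CommRingCat.ofHom φ.toRingHom)) (by
    show Spec.map _ ≫ Spec.map _ = Spec.map _
    rw [← Spec.map_comp]
    congr 1
    exact CommRingCat.hom_ext (RingHom.ext fun r => φ.commutes r))

@[simp] theorem ptAlg_left {A B : CommAlgCat.{u} R} (φ : B →ₐ[R] A) :
    (ptAlg φ).left = Spec.map (CommRingCat.ofHom φ.toRingHom) := rfl

theorem ptAlg_surjective {A B : CommAlgCat.{u} R} (g : SpA A ⟶ SpA B) : ∃ φ, ptAlg φ = g := by
  obtain ⟨φ, hφ⟩ := exists_algHom (𝟙 (SpA B)) g g.left (Category.comp_id _)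
  exact ⟨φ.hom, Over.OverMorphism.ext hφ⟩

/-- The algebra map of a morphism of affine schemes over `Spec R`. -/
def homOf {A B : CommAlgCat.{u} R} (g : SpA A ⟶ SpA B) : B →ₐ[R] A := (ptAlg_surjective g).choose

theorem ptAlg_homOf {A B : CommAlgCat.{u} R} (g : SpA A ⟶ SpA B) : ptAlg (homOf g) = g :=
  (ptAlg_surjective g).choose_spec

theorem ptAlg_injective {A B : CommAlgCat.{u} R} : Function.Injective (ptAlg (A := A) (B := B)) := fun φ ψ h => by
  have h' := Spec.map_injective (congrArg CommaMorphism.left h)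
  exact AlgHom.coe_ringHom_injective (congrArg CommRingCat.Hom.hom h')

theorem ptAlg_comp {A B C : CommAlgCat.{u} R} (φ : B →ₐ[R] A) (ψ : C →ₐ[R] B) :
    ptAlg φ ≫ ptAlg ψ = ptAlg (φ.comp ψ) :=
  Over.OverMorphism.ext (Spec.map_comp _ _).symm

theorem homOf_ptAlg {A B : CommAlgCat.{u} R} (φ : B →ₐ[R] A) : homOf (ptAlg φ) = φ :=
  ptAlg_injective (ptAlg_homOf _)

theorem homOf_precomp {A A' B : CommAlgCat.{u} R} (φ : A →ₐ[R] A') (g : SpA A ⟶ SpA B) (g' : SpA A' ⟶ SpA B)
    (h : g'.left = Spec.map (CommRingCat.ofHom φ.toRingHom) ≫ g.left) : homOf g' = φ.comp (homOf g) := by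
  apply ptAlg_injective
  rw [ptAlg_homOf]
  refine Over.OverMorphism.ext (h.trans ?_)
  rw [ptAlg_left]
  conv_lhs => rw [← ptAlg_homOf g]
  exact (Spec.map_comp _ _).symm

variable (R) in
/-- The relations of a chart. -/
def chartIdeal (s : Fin k → Fin n) : Ideal (MvPolynomial (Fin k × Fin n) R) :=
  Ideal.span (Set.range fun p : Fin k × Fin k => X (p.1, s p.2) - if p.1 = p.2 then 1 else 0)

variable (R) in
/-- The coordinate algebra of a chart. -/
def chartAlg (s : Fin k → Fin n) : CommAlgCat.{u} R :=
  CommAlgCat.of R (MvPolynomial (Fin k × Fin n) R ⧸ chartIdeal R s)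

variable (R) in
/-- The universal matrix of a chart. -/
def univMat (s : Fin k → Fin n) : Matrix (Fin k) (Fin n) (chartAlg R s) :=
  Matrix.of fun j i => Ideal.Quotient.mk (chartIdeal R s) (X (j, i))

theorem univMat_normalised (s : Fin k → Fin n) : IsNormalised s (univMat R s) := fun l => by
  ext j
  have h : X (j, s l) - (if j = l then 1 else 0) ∈ chartIdeal R s := Ideal.subset_span ⟨(j, l), rfl⟩
  rw [Matrix.col_apply, univMat, Matrix.of_apply, Pi.single_apply, Ideal.Quotient.eq.2 h]
  split <;> simp <;> rfl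

theorem exists_chartHom {s : Fin k → Fin n} {A : Type u} [CommRing A] [Algebra R A]
    {a : Matrix (Fin k) (Fin n) A} (ha : IsNormalised s a) :
    ∃ φ : chartAlg R s →ₐ[R] A, (univMat R s).map φ = a := by
  refine ⟨Ideal.Quotient.liftₐ (chartIdeal R s) (aeval fun p => a p.1 p.2) ?_, ?_⟩
  · intro x hx
    have hle : chartIdeal R s ≤ RingHom.ker (aeval (R := R) fun p : Fin k × Fin n => a p.1 p.2).toRingHom := by
      refine Ideal.span_le.2 ?_
      rintro _ ⟨⟨j, l⟩, rfl⟩
      show aeval (R := R) (fun p : Fin k × Fin n => a p.1 p.2) (X (j, s l) - if j = l then 1 else 0) = 0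
      have := congrFun (ha l) j
      rw [Matrix.col_apply, Pi.single_apply] at this
      rw [map_sub, aeval_X, this]
      split <;> simp
    exact hle hx
  · ext j i
    simp only [univMat, Matrix.map_apply, Matrix.of_apply]
    exact aeval_X _ _

theorem chartHom_ext {s : Fin k → Fin n} {A : Type u} [CommRing A] [Algebra R A]
    {φ ψ : chartAlg R s →ₐ[R] A} (h : (univMat R s).map φ = (univMat R s).map ψ) : φ = ψ := by
  refine Ideal.Quotient.algHom_ext R (MvPolynomial.algHom_ext fun p => ?_)
  exact congrFun (congrFun h p.1) p.2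

variable (R) in
/-- The universal point of a chart. -/
def univPt (s : Fin k → Fin n) : G(k, chartAlg R s ⊗[R] (Fin n → R); chartAlg R s) :=
  ptMat (univMat R s) (univMat_normalised s)

variable (R) in
/-- A chart. -/
abbrev chartSch (s : Fin k → Fin n) : Over (Spec (CommRingCat.of R)) := SpA (chartAlg R s)

/-- The point given by a morphism into a chart. -/
def val {A : CommAlgCat.{u} R} (s : Fin k → Fin n) (g : SpA A ⟶ chartSch R s) :
    G(k, A ⊗[R] (Fin n → R); A) :=
  Module.Grassmannian.map (homOf g) (univPt R s)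

theorem val_natural {A A' : CommAlgCat.{u} R} (s : Fin k → Fin n) (φ : A →ₐ[R] A') (g : SpA A ⟶ chartSch R s)
    (g' : SpA A' ⟶ chartSch R s) (h : g'.left = Spec.map (CommRingCat.ofHom φ.toRingHom) ≫ g.left) :
    val s g' = Module.Grassmannian.map φ (val s g) := by
  rw [val, val, homOf_precomp φ g g' h, Module.Grassmannian.map_comp]

theorem inChart_val {A : CommAlgCat.{u} R} (s : Fin k → Fin n) (g : SpA A ⟶ chartSch R s) : InChart s (val s g) :=
  inChart_map _ (inChart_ptMat _ _)

theorem val_injective {A : CommAlgCat.{u} R} (s : Fin k → Fin n) :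
    Function.Injective (val (A := A) s) := fun g g' h => by
  rw [val, val, univPt, map_ptMat, map_ptMat] at h
  rw [← ptAlg_homOf g, ← ptAlg_homOf g', chartHom_ext (ptMat_injective h)]

theorem exists_val_eq {A : CommAlgCat.{u} R} {s : Fin k → Fin n} {N : G(k, A ⊗[R] (Fin n → R); A)}
    (h : InChart s N) : ∃ g : SpA A ⟶ chartSch R s, val s g = N := by
  obtain ⟨a, ha, rfl⟩ := exists_ptMat h
  obtain ⟨φ, hφ⟩ := exists_chartHom (R := R) ha
  refine ⟨ptAlg φ, ?_⟩
  rw [val, homOf_ptAlg, univPt, map_ptMat]
  congr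

variable (R) in
/-- The transition minor. -/
def chartDet (s t : Fin k → Fin n) : chartAlg R s := ((univMat R s).submatrix id t).det

variable (R) in
/-- The overlap algebra. -/
def ovAlg (s t : Fin k → Fin n) : CommAlgCat.{u} R := CommAlgCat.of R (Localization.Away (chartDet R s t))

variable (R) in
/-- The inclusion of an overlap. -/
def ovIncl (s t : Fin k → Fin n) : SpA (ovAlg R s t) ⟶ chartSch R s :=
  ptAlg (IsScalarTower.toAlgHom R (chartAlg R s) (Localization.Away (chartDet R s t)))

instance (s t : Fin k → Fin n) : IsOpenImmersion (ovIncl R s t).left := by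
  exact IsOpenImmersion.of_isLocalization (S := Localization.Away (chartDet R s t)) (chartDet R s t)

/-- The point given by a morphism into an overlap. -/
def ovVal {A : CommAlgCat.{u} R} (s t : Fin k → Fin n) (g : SpA A ⟶ SpA (ovAlg R s t)) :
    G(k, A ⊗[R] (Fin n → R); A) :=
  val s (g ≫ ovIncl R s t)

theorem ovVal_injective {A : CommAlgCat.{u} R} (s t : Fin k → Fin n) :
    Function.Injective (ovVal (A := A) s t) := fun g g' h => by
  have h' := congrArg CommaMorphism.left (val_injective s h)
  exact Over.OverMorphism.ext ((cancel_mono (ovIncl R s t).left).1 h')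

theorem det_submatrix_map {A : Type u} [CommRing A] [Algebra R A] (s t : Fin k → Fin n)
    (φ : chartAlg R s →ₐ[R] A) :
    φ (chartDet R s t) = (((univMat R s).map φ).submatrix id t).det := by
  rw [chartDet, AlgHom.map_det]
  rfl

theorem inChart_ovVal {A : CommAlgCat.{u} R} (s t : Fin k → Fin n) (g : SpA A ⟶ SpA (ovAlg R s t)) :
    InChart t (ovVal s t g) := by
  have h : InChart t (Module.Grassmannian.map
      (IsScalarTower.toAlgHom R (chartAlg R s) (Localization.Away (chartDet R s t))) (univPt R s)) := by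
    rw [univPt, map_ptMat, inChart_ptMat_iff, ← det_submatrix_map]
    exact IsLocalization.Away.algebraMap_isUnit _
  have e : homOf (g ≫ ovIncl R s t) =
      (homOf g).comp (IsScalarTower.toAlgHom R (chartAlg R s) (Localization.Away (chartDet R s t))) := by
    apply ptAlg_injective
    rw [ptAlg_homOf]
    conv_lhs => rw [← ptAlg_homOf g]
    exact Over.OverMorphism.ext (Spec.map_comp _ _).symm
  rw [ovVal, val, e, Module.Grassmannian.map_comp]
  exact inChart_map _ h

theorem exists_ovVal_eq {A : CommAlgCat.{u} R} {s t : Fin k → Fin n} {N : G(k, A ⊗[R] (Fin n → R); A)}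
    (hs : InChart s N) (ht : InChart t N) : ∃ g : SpA A ⟶ SpA (ovAlg R s t), ovVal s t g = N := by
  obtain ⟨g, rfl⟩ := exists_val_eq hs
  have hu : IsUnit (homOf g (chartDet R s t)) := by
    rw [val, univPt, map_ptMat, inChart_ptMat_iff, ← det_submatrix_map] at ht
    exact ht
  let φ : Localization.Away (chartDet R s t) →ₐ[R] A :=
    IsLocalization.liftAlgHom (M := Submonoid.powers (chartDet R s t)) (f := homOf g) (by
      rintro ⟨_, q, rfl⟩
      rw [map_pow]
      exact hu.pow q)
  refine ⟨ptAlg (B := ovAlg R s t) φ, ?_⟩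
  have e : ptAlg (B := ovAlg R s t) φ ≫ ovIncl R s t = g := by
    conv_rhs => rw [← ptAlg_homOf g]
    rw [ovIncl, ptAlg_comp]
    exact congrArg ptAlg (AlgHom.ext fun x => IsLocalization.lift_eq (S := Localization.Away (chartDet R s t)) _ x)
  rw [ovVal, e]

theorem ovVal_natural {A A' : CommAlgCat.{u} R} (s t : Fin k → Fin n) (φ : A →ₐ[R] A')
    (g : SpA A ⟶ SpA (ovAlg R s t)) (g' : SpA A' ⟶ SpA (ovAlg R s t))
    (h : g'.left = Spec.map (CommRingCat.ofHom φ.toRingHom) ≫ g.left) :
    ovVal s t g' = Module.Grassmannian.map φ (ovVal s t g) :=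
  val_natural s φ _ _ (by rw [Over.comp_left, h]; exact Category.assoc _ _ _)

theorem exists_swap (s t : Fin k → Fin n) : ∃ τ : SpA (ovAlg R s t) ⟶ SpA (ovAlg R t s),
    ∀ (A : CommAlgCat.{u} R) (g : SpA A ⟶ SpA (ovAlg R s t)), ovVal t s (g ≫ τ) = ovVal s t g := by
  obtain ⟨τ, hτ⟩ := exists_ovVal_eq (inChart_ovVal s t (𝟙 _)) (inChart_val s (𝟙 (SpA (ovAlg R s t)) ≫ ovIncl R s t))
  refine ⟨τ, fun A g => ?_⟩
  obtain ⟨φ, rfl⟩ := ptAlg_surjective g
  rw [ovVal_natural t s φ τ (ptAlg φ ≫ τ) rfl, hτ]
  exact (ovVal_natural s t φ (𝟙 _) (ptAlg φ) (Category.comp_id _).symm).symm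

variable (R) in
/-- The transition map. -/
def swap (s t : Fin k → Fin n) : SpA (ovAlg R s t) ⟶ SpA (ovAlg R t s) := (exists_swap s t).choose

theorem ovVal_swap {A : CommAlgCat.{u} R} (s t : Fin k → Fin n) (g : SpA A ⟶ SpA (ovAlg R s t)) :
    ovVal t s (g ≫ swap R s t) = ovVal s t g :=
  (exists_swap s t).choose_spec A g

variable (R) in
/-- The triple overlap. -/
def triple (s t v : Fin k → Fin n) : Over (Spec (CommRingCat.of R)) :=
  Over.mk (pullback.fst (ovIncl R s t).left (ovIncl R s v).left ≫ (SpA (ovAlg R s t)).hom)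

variable (R) in
/-- The first projection of a triple overlap. -/
def tripleFst (s t v : Fin k → Fin n) : triple R s t v ⟶ SpA (ovAlg R s t) :=
  Over.homMk (pullback.fst _ _) rfl

variable (R) in
/-- The second projection of a triple overlap. -/
def tripleSnd (s t v : Fin k → Fin n) : triple R s t v ⟶ SpA (ovAlg R s v) :=
  Over.homMk (pullback.snd _ _) (by
    show pullback.snd (ovIncl R s t).left (ovIncl R s v).left ≫ (SpA (ovAlg R s v)).hom =
      pullback.fst (ovIncl R s t).left (ovIncl R s v).left ≫ (SpA (ovAlg R s t)).hom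
    rw [← Over.w (ovIncl R s v), ← Over.w (ovIncl R s t)]
    exact (Category.assoc _ _ _).symm.trans ((congrArg (fun z => z ≫ (chartSch R s).hom)
      pullback.condition.symm).trans (Category.assoc _ _ _)))

theorem triple_val {A : CommAlgCat.{u} R} {s t v : Fin k → Fin n} (g : SpA A ⟶ triple R s t v) :
    ovVal s v (g ≫ tripleSnd R s t v) = ovVal s t (g ≫ tripleFst R s t v) := by
  rw [ovVal, ovVal]
  congr 1
  refine Over.OverMorphism.ext ?_
  show (g.left ≫ pullback.snd _ _) ≫ (ovIncl R s v).left = (g.left ≫ pullback.fst _ _) ≫ (ovIncl R s t).left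
  rw [Category.assoc, Category.assoc]
  exact congrArg (fun z => g.left ≫ z) pullback.condition.symm

theorem exists_triple_map (s t v : Fin k → Fin n) : ∃ θ : triple R s t v ⟶ triple R t v s,
    θ ≫ tripleSnd R t v s = tripleFst R s t v ≫ swap R s t ∧
    ∀ (A : CommAlgCat.{u} R) (g : SpA A ⟶ triple R s t v),
      ovVal t v (g ≫ θ ≫ tripleFst R t v s) = ovVal s t (g ≫ tripleFst R s t v) := by
  have hex : ∀ (A : CommAlgCat.{u} R) (g : SpA A ⟶ triple R s t v),
      ∃ g' : SpA A ⟶ SpA (ovAlg R t v), ovVal t v g' = ovVal s t (g ≫ tripleFst R s t v) := fun A g => by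
    refine exists_ovVal_eq (inChart_ovVal _ _ _) ?_
    rw [← triple_val]
    exact inChart_ovVal _ _ _
  choose F hF using hex
  obtain ⟨a, ha⟩ := exists_hom_of_points F fun A B φ g g' hg => by
    let g'' : SpA B ⟶ SpA (ovAlg R t v) := ptAlg φ.hom ≫ F A g
    have : F B g' = g'' := by
      apply ovVal_injective t v
      rw [hF, ovVal_natural t v φ.hom (F A g) g'' rfl, hF]
      refine ovVal_natural s t φ.hom _ _ ?_
      show g'.left ≫ _ = _ ≫ g.left ≫ _
      rw [hg]
      exact Category.assoc _ _ _
    rw [this]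
    rfl
  have hcond : a.left ≫ (ovIncl R t v).left = (tripleFst R s t v ≫ swap R s t).left ≫ (ovIncl R t s).left := by
    have : a ≫ ovIncl R t v = (tripleFst R s t v ≫ swap R s t) ≫ ovIncl R t s := over_hom_ext _ _ fun A g => by
      apply val_injective t
      rw [← Category.assoc, ha, ← Category.assoc, ← Category.assoc g]
      exact (hF A g).trans (ovVal_swap s t (g ≫ tripleFst R s t v)).symm
    exact congrArg CommaMorphism.left this
  let θ : triple R s t v ⟶ triple R t v s := Over.homMk (pullback.lift _ _ hcond) (by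
    show pullback.lift _ _ hcond ≫ pullback.fst _ _ ≫ (SpA (ovAlg R t v)).hom = _
    rw [pullback.lift_fst_assoc]
    exact Over.w a)
  refine ⟨θ, Over.OverMorphism.ext (pullback.lift_snd _ _ hcond), fun A g => ?_⟩
  have : θ ≫ tripleFst R t v s = a := Over.OverMorphism.ext (pullback.lift_fst _ _ hcond)
  rw [this, ha, hF]

variable (R) in
/-- The rotation of triple overlaps. -/
def rot (s t v : Fin k → Fin n) : triple R s t v ⟶ triple R t v s := (exists_triple_map s t v).choose

theorem ovIncl_self_isIso (s : Fin k → Fin n) : IsIso (ovIncl R s s).left := by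
  have hd : IsUnit (chartDet R s s) := by
    rw [chartDet, ← inChart_ptMat_iff (R := R) _ _ (univMat_normalised s)]
    exact inChart_ptMat _ _
  haveI : IsIso (CommRingCat.ofHom (algebraMap (chartAlg R s) (Localization.Away (chartDet R s s)))) :=
    (IsLocalization.atUnit (chartAlg R s) (Localization.Away (chartDet R s s))
      (chartDet R s s) hd).toRingEquiv.toCommRingCatIso.isIso_hom
  exact (inferInstance : IsIso (Spec.map (CommRingCat.ofHom
    (algebraMap (chartAlg R s) (Localization.Away (chartDet R s s))))))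

theorem swap_self (s : Fin k → Fin n) : (swap R s s).left = 𝟙 _ := by
  have : swap R s s = 𝟙 _ := over_hom_ext _ _ fun A g => by
    apply ovVal_injective s s
    rw [ovVal_swap, Category.comp_id]
  rw [this]
  rfl

theorem rot_cocycle (s t v : Fin k → Fin n) :
    (rot R s t v).left ≫ (rot R t v s).left ≫ (rot R v s t).left = 𝟙 _ := by
  have h : rot R s t v ≫ rot R t v s ≫ rot R v s t ≫ tripleFst R s t v = tripleFst R s t v :=
    over_hom_ext _ _ fun A g => by
      apply ovVal_injective s t
      have h1 := fun (a b c : Fin k → Fin n) (g : SpA A ⟶ triple R a b c) =>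
        (exists_triple_map a b c).choose_spec.2 A g
      have e3 := h1 v s t (g ≫ rot R s t v ≫ rot R t v s)
      have e2 := h1 t v s (g ≫ rot R s t v)
      have e1 := h1 s t v g
      simp only [rot, Category.assoc] at e1 e2 e3 ⊢
      exact (e3.trans e2).trans e1
  haveI : Mono (tripleFst R s t v).left := by
    show Mono (pullback.fst (ovIncl R s t).left (ovIncl R s v).left)
    infer_instance
  apply (cancel_mono (tripleFst R s t v).left).1
  have h' := congrArg CommaMorphism.left h
  simp only [Over.comp_left, Category.assoc] at h' ⊢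
  exact h'.trans (Category.id_comp _).symm

variable (R n k) in
/-- The glueing data of the Grassmannian. -/
def grassData : Scheme.GlueData.{u} where
  J := ULift.{u} {s : Fin k → Fin n // Function.Injective s}
  U s := (chartSch R s.down.1).left
  V p := (SpA (ovAlg R p.1.down.1 p.2.down.1)).left
  f s t := (ovIncl R s.down.1 t.down.1).left
  f_id s := ovIncl_self_isIso s.down.1
  t s t' := (swap R s.down.1 t'.down.1).left
  t_id s := swap_self s.down.1
  t' s t v := (rot R s.down.1 t.down.1 v.down.1).left
  t_fac s t v := congrArg CommaMorphism.left (exists_triple_map s.down.1 t.down.1 v.down.1).choose_spec.1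
  cocycle s t v := rot_cocycle s.down.1 t.down.1 v.down.1
  f_open s t := inferInstanceAs (IsOpenImmersion (ovIncl R s.down.1 t.down.1).left)

variable (R n k) in
/-- The Grassmannian of `R^n`. -/
def grassSch : Over (Spec (CommRingCat.of R)) :=
  Over.mk (Y := (grassData R n k).glued) (Multicoequalizer.desc _ _ (fun s => (chartSch R s.down.1).hom) (by
    rintro ⟨s, t⟩
    show (ovIncl R s.down.1 t.down.1).left ≫ (chartSch R s.down.1).hom =
      ((swap R s.down.1 t.down.1).left ≫ (ovIncl R t.down.1 s.down.1).left) ≫ (chartSch R t.down.1).hom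
    rw [Over.w, Category.assoc, Over.w, Over.w]))

variable (R) in
/-- The inclusion of a chart. -/
def chartIncl (s : (grassData R n k).J) : chartSch R s.down.1 ⟶ grassSch R n k :=
  Over.homMk ((grassData R n k).ι s) (by exact Multicoequalizer.π_desc (grassData R n k).diagram _ _ _ s)

instance (s : (grassData R n k).J) : IsOpenImmersion (chartIncl R s).left :=
  inferInstanceAs (IsOpenImmersion ((grassData R n k).ι s))

theorem val_eq_iff {A : CommAlgCat.{u} R} (s t : (grassData R n k).J)
    (g : SpA A ⟶ chartSch R s.down.1) (g' : SpA A ⟶ chartSch R t.down.1) :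
    g ≫ chartIncl R s = g' ≫ chartIncl R t ↔ val s.down.1 g = val t.down.1 g' := by
  constructor
  · intro h
    have h' : g.left ≫ (grassData R n k).ι s = g'.left ≫ (grassData R n k).ι t := congrArg CommaMorphism.left h
    obtain ⟨q, hq1, hq2⟩ : ∃ q : (SpA A).left ⟶ (grassData R n k).V (s, t),
        q ≫ (grassData R n k).f s t = g.left ∧
        q ≫ (grassData R n k).t s t ≫ (grassData R n k).f t s = g'.left :=
      ⟨_, PullbackCone.IsLimit.lift_fst ((grassData R n k).vPullbackConeIsLimit s t) g.left g'.left h',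
        PullbackCone.IsLimit.lift_snd ((grassData R n k).vPullbackConeIsLimit s t) g.left g'.left h'⟩
    let q' : SpA A ⟶ SpA (ovAlg R s.down.1 t.down.1) := Over.homMk q (by
      rw [← Over.w (ovIncl R s.down.1 t.down.1), ← Category.assoc]
      exact (congrArg (fun z => z ≫ (chartSch R s.down.1).hom) hq1).trans (Over.w g))
    have eg : q' ≫ ovIncl R s.down.1 t.down.1 = g := Over.OverMorphism.ext hq1
    have eg' : (q' ≫ swap R s.down.1 t.down.1) ≫ ovIncl R t.down.1 s.down.1 = g' :=
      Over.OverMorphism.ext ((Category.assoc _ _ _).trans hq2)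
    rw [← eg, ← eg']
    exact (ovVal_swap s.down.1 t.down.1 q').symm
  · intro h
    obtain ⟨q, hq⟩ := exists_ovVal_eq (inChart_val s.down.1 g) (h ▸ inChart_val t.down.1 g')
    have eg : q ≫ ovIncl R s.down.1 t.down.1 = g := val_injective _ hq
    have eg' : (q ≫ swap R s.down.1 t.down.1) ≫ ovIncl R t.down.1 s.down.1 = g' :=
      val_injective _ ((ovVal_swap _ _ q).trans (hq.trans h))
    rw [← eg, ← eg']
    refine Over.OverMorphism.ext ?_
    show (q.left ≫ (grassData R n k).f s t) ≫ (grassData R n k).ι s =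
      ((q.left ≫ (grassData R n k).t s t) ≫ (grassData R n k).f t s) ≫ (grassData R n k).ι t
    simp only [Category.assoc]
    exact congrArg (fun z => q.left ≫ z) ((grassData R n k).glue_condition s t).symm

end Groth.Agent.GrassRep
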