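import Mathlib
import Groth.Agent.GrassRep.Glue
import Groth.Agent.GrassClosed.Comap

/-! The glued scheme represents the Grassmannian functor of `R^n`; finite modules follow. -/

set_option autoImplicit false

universe u

noncomputable section

open TensorProduct CategoryTheory CategoryTheory.Limits AlgebraicGeometry Module
open Module.Grassmannian

namespace Groth.Agent.GrassRep

open GrassClosed

variable {R : Type u} [CommRing R] {n k : ℕ}

/-- `N` is the submodule attached to the point `g` of the Grassmannian. -/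
def Attached {A : CommAlgCat.{u} R} (g : SpA A ⟶ grassSch R n k) (N : G(k, A ⊗[R] (Fin n → R); A)) : Prop :=
  ∀ (C : CommAlgCat.{u} R) (φ : A →ₐ[R] C) (s : (grassData R n k).J) (h : SpA C ⟶ chartSch R s.down.1),
    h ≫ chartIncl R s = ptAlg φ ≫ g → val s.down.1 h = Module.Grassmannian.map φ N

/-- A basic localisation in `CommAlgCat`. -/
abbrev awayAlg (A : CommAlgCat.{u} R) (f : A) : CommAlgCat.{u} R := CommAlgCat.of R (Localization.Away f)

/-- The basic open morphism. -/
abbrev awayPt (A : CommAlgCat.{u} R) (f : A) : SpA (awayAlg A f) ⟶ SpA A :=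
  ptAlg (A := awayAlg A f) (locHom f)

theorem hom_ext_of_cover {A : CommAlgCat.{u} R} {X : Over (Spec (CommRingCat.of R))} {ι : Type u} (f : ι → A)
    (hf : Ideal.span (Set.range f) = ⊤) (g g' : SpA A ⟶ X)
    (h : ∀ i, awayPt A (f i) ≫ g = awayPt A (f i) ≫ g') : g = g' := by
  refine Over.OverMorphism.ext (Scheme.Cover.hom_ext
    (Scheme.affineOpenCoverOfSpanRangeEqTop (R := CommRingCat.of A) f hf).openCover _ _ fun i => ?_)
  exact congrArg CommaMorphism.left (h i)

theorem exists_cover_lift {A : CommAlgCat.{u} R} (g : SpA A ⟶ grassSch R n k) :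
    ∃ (ι : Type u) (_ : Finite ι) (f : ι → A) (s : ι → (grassData R n k).J)
      (h : ∀ i, SpA (awayAlg A (f i)) ⟶ chartSch R (s i).down.1),
      Ideal.span (Set.range f) = ⊤ ∧ ∀ i, h i ≫ chartIncl R (s i) = awayPt A (f i) ≫ g := by
  classical
  have hloc : ∀ x : PrimeSpectrum A, ∃ f : A, f ∉ x.asIdeal ∧ ∃ (s : (grassData R n k).J)
      (h : SpA (awayAlg A f) ⟶ chartSch R s.down.1), h ≫ chartIncl R s = awayPt A f ≫ g := by
    intro x
    obtain ⟨s, y, hy⟩ := (grassData R n k).ι_jointly_surjective (g.left.base x)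
    have hopen : IsOpen (g.left.base ⁻¹' Set.range (chartIncl R s).left.base : Set (PrimeSpectrum A)) :=
      (chartIncl R s).left.isOpenEmbedding.isOpen_range.preimage g.left.continuous
    obtain ⟨_, ⟨f, rfl⟩, hxf, hf⟩ := PrimeSpectrum.isTopologicalBasis_basic_opens.exists_subset_of_mem_open
      (show x ∈ g.left.base ⁻¹' Set.range (chartIncl R s).left.base from ⟨y, hy⟩) hopen
    have hsub : Set.range ((awayPt A f).left ≫ g.left).base ⊆ Set.range (chartIncl R s).left.base := by
      rintro _ ⟨w, rfl⟩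
      refine hf ?_
      show PrimeSpectrum.comap (algebraMap A (Localization.Away f)) w ∈
        (PrimeSpectrum.basicOpen f : Set (PrimeSpectrum A))
      rw [← PrimeSpectrum.localization_away_comap_range (Localization.Away f) f]
      exact ⟨w, rfl⟩
    refine ⟨f, hxf, s, Over.homMk (IsOpenImmersion.lift (chartIncl R s).left _ hsub) ?_, ?_⟩
    · rw [← Over.w (chartIncl R s), IsOpenImmersion.lift_fac_assoc]
      exact (congrArg (fun z => z ≫ (grassSch R n k).hom) rfl).trans (Over.w (awayPt A f ≫ g))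
    · exact Over.OverMorphism.ext (IsOpenImmersion.lift_fac _ _ _)
  choose f hf s h hh using hloc
  obtain ⟨T, hTsub, hT⟩ := (Ideal.span_eq_top_iff_finite (Set.range f)).1 (by
    by_contra hne
    obtain ⟨m, hm, hle⟩ := Ideal.exists_le_maximal _ hne
    exact hf ⟨m, hm.isPrime⟩ (hle (Ideal.subset_span ⟨⟨m, hm.isPrime⟩, rfl⟩)))
  choose pre hpre using fun t : T => hTsub t.2
  refine ⟨T, inferInstance, fun t => f (pre t), fun t => s (pre t), fun t => h (pre t), ?_, fun t => hh (pre t)⟩
  refine eq_top_iff.2 (hT.ge.trans (Ideal.span_le.2 fun t ht => Ideal.subset_span ⟨⟨t, ht⟩, hpre ⟨t, ht⟩⟩))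

theorem exists_cover_chart {A : CommAlgCat.{u} R} (N : G(k, A ⊗[R] (Fin n → R); A)) :
    ∃ (ι : Type u) (_ : Finite ι) (f : ι → A) (s : ι → (grassData R n k).J)
      (h : ∀ i, SpA (awayAlg A (f i)) ⟶ chartSch R (s i).down.1),
      Ideal.span (Set.range f) = ⊤ ∧ ∀ i, val (s i).down.1 (h i) = Module.Grassmannian.map (locHom (f i)) N := by
  classical
  have hloc : ∀ x : PrimeSpectrum A, ∃ f : A, f ∉ x.asIdeal ∧ ∃ (s : (grassData R n k).J)
      (h : SpA (awayAlg A f) ⟶ chartSch R s.down.1), val s.down.1 h = Module.Grassmannian.map (locHom f) N := by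
    intro x
    obtain ⟨f, hfx, s, hs, hin⟩ := exists_inChart_away N x
    obtain ⟨h, hh⟩ := exists_val_eq (A := awayAlg A f) hin
    exact ⟨f, hfx, ⟨⟨s, hs⟩⟩, h, hh⟩
  choose f hf s h hh using hloc
  obtain ⟨T, hTsub, hT⟩ := (Ideal.span_eq_top_iff_finite (Set.range f)).1 (by
    by_contra hne
    obtain ⟨m, hm, hle⟩ := Ideal.exists_le_maximal _ hne
    exact hf ⟨m, hm.isPrime⟩ (hle (Ideal.subset_span ⟨⟨m, hm.isPrime⟩, rfl⟩)))
  choose pre hpre using fun t : T => hTsub t.2
  refine ⟨T, inferInstance, fun t => f (pre t), fun t => s (pre t), fun t => h (pre t), ?_, fun t => hh (pre t)⟩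
  refine eq_top_iff.2 (hT.ge.trans (Ideal.span_le.2 fun t ht => Ideal.subset_span ⟨⟨t, ht⟩, hpre ⟨t, ht⟩⟩))

theorem span_range_map_eq_top {A C : Type u} [CommRing A] [CommRing C] [Algebra R A] [Algebra R C]
    (φ : A →ₐ[R] C) {ι : Type u} {f : ι → A} (hf : Ideal.span (Set.range f) = ⊤) :
    Ideal.span (Set.range fun i => φ (f i)) = ⊤ := by
  have := congrArg (Ideal.map φ.toRingHom) hf
  rw [Ideal.map_span, Ideal.map_top, ← Set.range_comp] at this
  exact this

/-- Lift of an algebra map through basic localisations. -/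
theorem exists_locHom_lift {A C : CommAlgCat.{u} R} (φ : A →ₐ[R] C) (f : A) :
    ∃ ψ : Localization.Away f →ₐ[R] Localization.Away (φ f), ψ.comp (locHom f) = (locHom (φ f)).comp φ := by
  refine ⟨IsLocalization.liftAlgHom (M := Submonoid.powers f) (f := (locHom (φ f)).comp φ) ?_,
    AlgHom.ext fun a => IsLocalization.lift_eq _ _⟩
  rintro ⟨_, q, rfl⟩
  rw [map_pow]
  exact (IsLocalization.Away.algebraMap_isUnit (S := Localization.Away (φ f)) (φ f)).pow q

theorem val_ptAlg {A B : CommAlgCat.{u} R} (s : Fin k → Fin n) (φ : A →ₐ[R] B) (g : SpA A ⟶ chartSch R s) :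
    val s (ptAlg φ ≫ g) = Module.Grassmannian.map φ (val s g) :=
  val_natural s φ g _ rfl

theorem attached_of_cover {A : CommAlgCat.{u} R} (g : SpA A ⟶ grassSch R n k) (N : G(k, A ⊗[R] (Fin n → R); A))
    {ι : Type u} (f : ι → A) (hf : Ideal.span (Set.range f) = ⊤) (s : ι → (grassData R n k).J)
    (h : ∀ i, SpA (awayAlg A (f i)) ⟶ chartSch R (s i).down.1)
    (hh : ∀ i, h i ≫ chartIncl R (s i) = awayPt A (f i) ≫ g)
    (hN : ∀ i, val (s i).down.1 (h i) = Module.Grassmannian.map (locHom (f i)) N) : Attached g N := by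
  intro C φ t h' hh'
  refine eq_of_forall_map_eq (fun i => φ (f i)) (span_range_map_eq_top φ hf) _ _ fun i => ?_
  obtain ⟨ψ, hψ⟩ := exists_locHom_lift φ (f i)
  have e : (ptAlg (A := awayAlg C (φ (f i))) (locHom (φ (f i))) ≫ h') ≫ chartIncl R t =
      (ptAlg (A := awayAlg C (φ (f i))) (B := awayAlg A (f i)) ψ ≫ h i) ≫ chartIncl R (s i) := by
    rw [Category.assoc, hh', Category.assoc, hh, ← Category.assoc, ← Category.assoc, ptAlg_comp, ptAlg_comp]
    exact congrArg (fun z => ptAlg (A := awayAlg C (φ (f i))) z ≫ g) hψ.symm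
  have e' := (val_eq_iff _ _ _ _).1 e
  rw [val_ptAlg, val_ptAlg, hN] at e'
  refine e'.trans ?_
  rw [← Module.Grassmannian.map_comp, ← Module.Grassmannian.map_comp]
  exact congrArg (fun z => Module.Grassmannian.map z N) hψ

theorem exists_attached {A : CommAlgCat.{u} R} (g : SpA A ⟶ grassSch R n k) : ∃ N, Attached g N := by
  obtain ⟨ι, _, f, s, h, hf, hh⟩ := exists_cover_lift g
  obtain ⟨N, hN⟩ := exists_glue f hf (fun i => val (s i).down.1 (h i)) fun i j C _ _ φ ψ hφψ => by
    have e : (ptAlg (A := CommAlgCat.of R C) (B := awayAlg A (f i)) φ ≫ h i) ≫ chartIncl R (s i) =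
        (ptAlg (A := CommAlgCat.of R C) (B := awayAlg A (f j)) ψ ≫ h j) ≫ chartIncl R (s j) := by
      rw [Category.assoc, hh, Category.assoc, hh, ← Category.assoc, ← Category.assoc, ptAlg_comp, ptAlg_comp]
      exact congrArg (fun z => ptAlg (A := CommAlgCat.of R C) z ≫ g) hφψ
    have e' := (val_eq_iff _ _ _ _).1 e
    rwa [val_ptAlg, val_ptAlg] at e'
  exact ⟨N, attached_of_cover g N f hf s h hh fun i => (hN i).symm⟩

theorem attached_unique {A : CommAlgCat.{u} R} {g : SpA A ⟶ grassSch R n k} {N N' : G(k, A ⊗[R] (Fin n → R); A)}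
    (h : Attached g N) (h' : Attached g N') : N = N' := by
  obtain ⟨ι, _, f, s, hp, hf, hh⟩ := exists_cover_lift g
  exact eq_of_forall_map_eq f hf _ _ fun i => ((h _ _ _ _ (hh i)).symm.trans (h' _ _ _ _ (hh i)))

theorem eq_of_attached {A : CommAlgCat.{u} R} {g g' : SpA A ⟶ grassSch R n k}
    {N : G(k, A ⊗[R] (Fin n → R); A)} (hg : Attached g N) (hg' : Attached g' N) : g = g' := by
  obtain ⟨ι, _, f, s, h, hf, hh⟩ := exists_cover_lift g
  refine hom_ext_of_cover f hf _ _ fun i => ?_
  obtain ⟨ι', _, f', s', h', hf', hh'⟩ := exists_cover_lift (awayPt A (f i) ≫ g')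
  refine hom_ext_of_cover f' hf' _ _ fun j => ?_
  rw [← hh i, ← hh' j, ← Category.assoc, val_eq_iff, val_ptAlg, hg _ _ _ _ (hh i),
    ← Module.Grassmannian.map_comp]
  refine (hg' _ _ _ _ ?_).symm
  rw [hh' j, ← Category.assoc, ptAlg_comp]

theorem attached_precomp {A B : CommAlgCat.{u} R} (φ : A →ₐ[R] B) {g : SpA A ⟶ grassSch R n k}
    {N : G(k, A ⊗[R] (Fin n → R); A)} (hg : Attached g N) :
    Attached (ptAlg φ ≫ g) (Module.Grassmannian.map φ N) := by
  intro C ψ s h hh
  rw [← Module.Grassmannian.map_comp]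
  exact hg C (ψ.comp φ) s h (by rw [hh, ← Category.assoc, ptAlg_comp])

theorem chart_compat {A B : CommAlgCat.{u} R} (N : G(k, A ⊗[R] (Fin n → R); A)) (a a' : A)
    (s s' : (grassData R n k).J) (h : SpA (awayAlg A a) ⟶ chartSch R s.down.1)
    (h' : SpA (awayAlg A a') ⟶ chartSch R s'.down.1)
    (hN : val s.down.1 h = Module.Grassmannian.map (locHom a) N)
    (hN' : val s'.down.1 h' = Module.Grassmannian.map (locHom a') N)
    (q : SpA B ⟶ SpA (awayAlg A a)) (q' : SpA B ⟶ SpA (awayAlg A a'))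
    (e : q ≫ awayPt A a = q' ≫ awayPt A a') :
    q ≫ h ≫ chartIncl R s = q' ≫ h' ≫ chartIncl R s' := by
  obtain ⟨φ, rfl⟩ := ptAlg_surjective q
  obtain ⟨ψ, rfl⟩ := ptAlg_surjective q'
  rw [ptAlg_comp, ptAlg_comp] at e
  rw [← Category.assoc, ← Category.assoc, val_eq_iff, val_ptAlg, val_ptAlg, hN, hN',
    ← Module.Grassmannian.map_comp, ← Module.Grassmannian.map_comp]
  exact congrArg (fun z => Module.Grassmannian.map z N) (ptAlg_injective e)

theorem overlap_compat {A : CommAlgCat.{u} R} (N : G(k, A ⊗[R] (Fin n → R); A)) (a a' : A)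
    (s s' : (grassData R n k).J) (h : SpA (awayAlg A a) ⟶ chartSch R s.down.1)
    (h' : SpA (awayAlg A a') ⟶ chartSch R s'.down.1)
    (hN : val s.down.1 h = Module.Grassmannian.map (locHom a) N)
    (hN' : val s'.down.1 h' = Module.Grassmannian.map (locHom a') N) :
    pullback.fst (awayPt A a).left (awayPt A a').left ≫ (h ≫ chartIncl R s).left =
      pullback.snd (awayPt A a).left (awayPt A a').left ≫ (h' ≫ chartIncl R s').left := by
  let W : Over (Spec (CommRingCat.of R)) :=
    Over.mk (pullback.fst (awayPt A a).left (awayPt A a').left ≫ (SpA (awayAlg A a)).hom)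
  let p : W ⟶ SpA (awayAlg A a) := Over.homMk (pullback.fst _ _) rfl
  let p' : W ⟶ SpA (awayAlg A a') := Over.homMk (pullback.snd _ _) (by
    show pullback.snd (awayPt A a).left (awayPt A a').left ≫ (SpA (awayAlg A a')).hom =
      pullback.fst (awayPt A a).left (awayPt A a').left ≫ (SpA (awayAlg A a)).hom
    rw [← Over.w (awayPt A a'), ← Over.w (awayPt A a)]
    exact (Category.assoc _ _ _).symm.trans ((congrArg (fun z => z ≫ (SpA A).hom)
      pullback.condition.symm).trans (Category.assoc _ _ _)))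
  have hp : p ≫ awayPt A a = p' ≫ awayPt A a' := Over.OverMorphism.ext pullback.condition
  have key : p ≫ h ≫ chartIncl R s = p' ≫ h' ≫ chartIncl R s' := over_hom_ext _ _ fun B g => by
    have e : (g ≫ p) ≫ awayPt A a = (g ≫ p') ≫ awayPt A a' := by
      rw [Category.assoc, Category.assoc, hp]
    have := chart_compat N a a' s s' h h' hN hN' (g ≫ p) (g ≫ p') e
    rw [Category.assoc g p, Category.assoc g p'] at this
    exact this
  exact congrArg CommaMorphism.left key

theorem exists_point_attached {A : CommAlgCat.{u} R} (N : G(k, A ⊗[R] (Fin n → R); A)) :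
    ∃ g : SpA A ⟶ grassSch R n k, Attached g N := by
  classical
  obtain ⟨ι, _, f, s, h, hf, hN⟩ := exists_cover_chart N
  let 𝒰 := (Scheme.affineOpenCoverOfSpanRangeEqTop (R := CommRingCat.of A) f hf).openCover
  let m : ∀ i, 𝒰.X i ⟶ (grassSch R n k).left := fun i => (h i ≫ chartIncl R (s i)).left
  have hc : ∀ i j : ι, pullback.fst (𝒰.f i) (𝒰.f j) ≫ m i = pullback.snd (𝒰.f i) (𝒰.f j) ≫ m j := fun i j =>
    overlap_compat N (f i) (f j) (s i) (s j) (h i) (h j) (hN i) (hN j)
  let g₀ := 𝒰.glueMorphisms m hc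
  have hg₀ : g₀ ≫ (grassSch R n k).hom = (SpA A).hom := 𝒰.hom_ext _ _ fun i => by
    rw [← Category.assoc, Scheme.Cover.ι_glueMorphisms]
    exact (Over.w (h i ≫ chartIncl R (s i))).trans (Over.w (awayPt A (f i))).symm
  refine ⟨Over.homMk g₀ hg₀, attached_of_cover _ N f hf s h (fun i => ?_) hN⟩
  exact Over.OverMorphism.ext (𝒰.ι_glueMorphisms m hc i).symm

variable (R n k) in
/-- The bijection between points and submodules. -/
def pointsEquiv (A : CommAlgCat.{u} R) :
    (SpA A ⟶ grassSch R n k) ≃ (Module.Grassmannian.functor (R := R) (M := Fin n → R) k).obj A :=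
  Equiv.ofBijective (fun g => (exists_attached g).choose)
    ⟨fun g g' h => by
      have h1 := (exists_attached g).choose_spec
      have h2 := (exists_attached g').choose_spec
      rw [show (exists_attached g).choose = (exists_attached g').choose from h] at h1
      exact eq_of_attached h1 h2,
    fun N => by
      obtain ⟨g, hg⟩ := exists_point_attached N
      exact ⟨g, attached_unique (exists_attached g).choose_spec hg⟩⟩

theorem pointsEquiv_natural (A B : CommAlgCat.{u} R) (φ : A ⟶ B) (g : SpA A ⟶ grassSch R n k)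
    (g' : SpA B ⟶ grassSch R n k) (h : g'.left = Spec.map (CommRingCat.ofHom φ.hom.toRingHom) ≫ g.left) :
    pointsEquiv R n k B g' = (Module.Grassmannian.functor (R := R) (M := Fin n → R) k).map φ (pointsEquiv R n k A g) := by
  have : g' = ptAlg φ.hom ≫ g := Over.OverMorphism.ext h
  subst this
  exact attached_unique (exists_attached _).choose_spec (attached_precomp φ.hom (exists_attached g).choose_spec)

/-- The Grassmannian of a finite module. -/
theorem exists_representing (M : Type u) [AddCommGroup M] [Module R M] [Module.Finite R M] (k : ℕ) :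
    ∃ (X : Over (Spec (CommRingCat.of R)))
      (e : ∀ A : CommAlgCat.{u} R, (SpA A ⟶ X) ≃ (Module.Grassmannian.functor (R := R) (M := M) k).obj A),
      ∀ (A B : CommAlgCat.{u} R) (φ : A ⟶ B) (g : SpA A ⟶ X) (g' : SpA B ⟶ X),
        g'.left = Spec.map (CommRingCat.ofHom φ.hom.toRingHom) ≫ g.left →
          e B g' = (Module.Grassmannian.functor (R := R) (M := M) k).map φ (e A g) := by
  obtain ⟨n, v, hv⟩ := Module.Finite.exists_fin' R M
  obtain ⟨Z, i, hi, hZ⟩ := exists_closed (pointsEquiv R n k) (pointsEquiv_natural)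
    (ι := PEmpty.{u + 1}) (fun a => a.elim) (LinearMap.ker v : Set (Fin n → R))
  haveI := hi
  let X : Over (Spec (CommRingCat.of R)) := Over.mk (i ≫ (grassSch R n k).hom)
  let io : X ⟶ grassSch R n k := Over.homMk i rfl
  have hcond : ∀ (A : CommAlgCat.{u} R) (g : SpA A ⟶ X),
      ∀ m ∈ LinearMap.ker v, (1 : A) ⊗ₜ[R] m ∈ (pointsEquiv R n k A (g ≫ io)).toSubmodule :=
    fun A g => ((hZ A (g ≫ io)).1 ⟨g.left, rfl⟩).2
  let e : ∀ A : CommAlgCat.{u} R, (SpA A ⟶ X) → (Module.Grassmannian.functor (R := R) (M := M) k).obj A :=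
    fun A g => mapPt hv (pointsEquiv R n k A (g ≫ io)) (hcond A g)
  have hcomap : ∀ (A : CommAlgCat.{u} R) (g : SpA A ⟶ X),
      (e A g).toSubmodule.comap (v.baseChange A) = (pointsEquiv R n k A (g ≫ io)).toSubmodule :=
    fun A g => comap_mapPt hv _ _
  have hbij : ∀ A, Function.Bijective (e A) := fun A => by
    constructor
    · intro g g' h
      have h1 : pointsEquiv R n k A (g ≫ io) = pointsEquiv R n k A (g' ≫ io) :=
        Module.Grassmannian.ext (by rw [← hcomap, ← hcomap, h])
      have h2 : g.left ≫ i = g'.left ≫ i := congrArg CommaMorphism.left ((pointsEquiv R n k A).injective h1)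
      exact Over.OverMorphism.ext ((cancel_mono i).1 h2)
    · intro N
      let g₁ := (pointsEquiv R n k A).symm (comapPt hv N)
      have hs : (pointsEquiv R n k A g₁).toSubmodule = N.toSubmodule.comap (v.baseChange A) := by
        rw [Equiv.apply_symm_apply]
        rfl
      obtain ⟨z, hz⟩ := (hZ A g₁).2 ⟨fun a => a.elim, fun m hm => by
        rw [hs, Submodule.mem_comap, LinearMap.baseChange_tmul, LinearMap.mem_ker.1 hm, TensorProduct.tmul_zero]
        exact zero_mem _⟩
      let g : SpA A ⟶ X := Over.homMk z ((Category.assoc _ _ _).symm.trans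
        ((congrArg (fun q => q ≫ (grassSch R n k).hom) hz).trans (Over.w g₁)))
      refine ⟨g, comap_injective hv ?_⟩
      rw [hcomap, show g ≫ io = g₁ from Over.OverMorphism.ext hz, hs]
  refine ⟨X, fun A => Equiv.ofBijective (e A) (hbij A), fun A B φ g g' h => ?_⟩
  refine comap_injective hv ?_
  show (e B g').toSubmodule.comap _ = _
  rw [hcomap, pointsEquiv_natural A B φ (g ≫ io) (g' ≫ io) (by
    show g'.left ≫ i = _ ≫ g.left ≫ i
    rw [h]
    exact Category.assoc _ _ _)]
  exact map_comap hv φ.hom _ (e A g) (hcomap A g).symm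

end Groth.Agent.GrassRep
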