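import Mathlib
import Groth.Agent.GrassRep.Rep

/-! Representing schemes are unique; the charts of the Grassmannian are affine spaces. -/

set_option autoImplicit false

universe u

noncomputable section

open TensorProduct CategoryTheory CategoryTheory.Limits AlgebraicGeometry Module MvPolynomial
open Module.Grassmannian

namespace Groth.Agent.GrassRep

open GrassClosed

variable {R : Type u} [CommRing R] {n k : ℕ}

theorem exists_comparison {F : CommAlgCat.{u} R → Type u} {X Y : Over (Spec (CommRingCat.of R))}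
    (m : ∀ {A B : CommAlgCat.{u} R}, (A ⟶ B) → F A → F B)
    (e : ∀ A : CommAlgCat.{u} R, (SpA A ⟶ X) ≃ F A) (e' : ∀ A : CommAlgCat.{u} R, (SpA A ⟶ Y) ≃ F A)
    (he : ∀ (A B : CommAlgCat.{u} R) (φ : A ⟶ B) (g : SpA A ⟶ X) (g' : SpA B ⟶ X),
      g'.left = Spec.map (CommRingCat.ofHom φ.hom.toRingHom) ≫ g.left → e B g' = m φ (e A g))
    (he' : ∀ (A B : CommAlgCat.{u} R) (φ : A ⟶ B) (g : SpA A ⟶ Y) (g' : SpA B ⟶ Y),
      g'.left = Spec.map (CommRingCat.ofHom φ.hom.toRingHom) ≫ g.left → e' B g' = m φ (e' A g)) :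
    ∃ c : X ⟶ Y, ∀ A g, g ≫ c = (e' A).symm (e A g) := by
  refine exists_hom_of_points _ fun A B φ g g' hg => ?_
  let h : SpA B ⟶ Y := ptAlg φ.hom ≫ (e' A).symm (e A g)
  have : (e' B).symm (e B g') = h := by
    rw [Equiv.symm_apply_eq, he' A B φ ((e' A).symm (e A g)) h rfl, Equiv.apply_symm_apply]
    exact he A B φ g g' hg
  rw [this]
  rfl

/-- Two schemes representing the same functor are isomorphic. -/
theorem iso_of_representing {F : CommAlgCat.{u} R → Type u} {X Y : Over (Spec (CommRingCat.of R))}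
    (m : ∀ {A B : CommAlgCat.{u} R}, (A ⟶ B) → F A → F B)
    (e : ∀ A : CommAlgCat.{u} R, (SpA A ⟶ X) ≃ F A) (e' : ∀ A : CommAlgCat.{u} R, (SpA A ⟶ Y) ≃ F A)
    (he : ∀ (A B : CommAlgCat.{u} R) (φ : A ⟶ B) (g : SpA A ⟶ X) (g' : SpA B ⟶ X),
      g'.left = Spec.map (CommRingCat.ofHom φ.hom.toRingHom) ≫ g.left → e B g' = m φ (e A g))
    (he' : ∀ (A B : CommAlgCat.{u} R) (φ : A ⟶ B) (g : SpA A ⟶ Y) (g' : SpA B ⟶ Y),
      g'.left = Spec.map (CommRingCat.ofHom φ.hom.toRingHom) ≫ g.left → e' B g' = m φ (e' A g)) :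
    ∃ i : X ≅ Y, ∀ A g, e' A (g ≫ i.hom) = e A g := by
  obtain ⟨c, hc⟩ := exists_comparison m e e' he he'
  obtain ⟨d, hd⟩ := exists_comparison m e' e he' he
  refine ⟨⟨c, d, over_hom_ext _ _ fun A g => ?_, over_hom_ext _ _ fun A g => ?_⟩, fun A g => ?_⟩
  · rw [← Category.assoc, hc, hd, Category.comp_id]
    simp
  · rw [← Category.assoc, hd, hc, Category.comp_id]
    simp
  · show e' A (g ≫ c) = e A g
    rw [hc, Equiv.apply_symm_apply]

/-- The variables of a chart. -/
abbrev ChartVar (s : Fin k → Fin n) : Type := Fin k × {i : Fin n // i ∉ Set.range s}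

variable (R) in
open scoped Classical in
/-- The generic matrix normalised on `s`. -/
def genMat (s : Fin k → Fin n) : Matrix (Fin k) (Fin n) (MvPolynomial (ChartVar s) R) :=
  Matrix.of fun j i => if h : i ∈ Set.range s then (if s j = i then 1 else 0) else X (j, ⟨i, h⟩)

theorem genMat_normalised {s : Fin k → Fin n} (hs : Function.Injective s) : IsNormalised s (genMat R s) := by
  intro l
  ext j
  simp only [Matrix.col_apply, genMat, Matrix.of_apply, Pi.single_apply, hs.eq_iff]
  rw [dif_pos ⟨l, rfl⟩]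

theorem nonempty_chartEquiv {s : Fin k → Fin n} (hs : Function.Injective s) :
    Nonempty (chartAlg R s ≃ₐ[R] MvPolynomial (ChartVar s) R) := by
  obtain ⟨f, hf⟩ := exists_chartHom (R := R) (genMat_normalised (R := R) hs)
  let g : MvPolynomial (ChartVar s) R →ₐ[R] chartAlg R s := aeval fun p => univMat R s p.1 p.2.1
  refine ⟨AlgEquiv.ofAlgHom f g (MvPolynomial.algHom_ext fun p => ?_) (chartHom_ext ?_)⟩
  · show f (g (X p)) = X p
    rw [aeval_X]
    refine (congrFun (congrFun hf p.1) p.2.1).trans ?_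
    simp only [genMat, Matrix.of_apply]
    rw [dif_neg p.2.2]
  · ext j i
    show g (f (univMat R s j i)) = univMat R s j i
    rw [show f (univMat R s j i) = genMat R s j i from congrFun (congrFun hf j) i]
    by_cases h : i ∈ Set.range s
    · obtain ⟨l, rfl⟩ := h
      have e1 := congrFun (genMat_normalised (R := R) hs l) j
      have e2 := congrFun (univMat_normalised (R := R) s l) j
      rw [Matrix.col_apply, Pi.single_apply] at e1 e2
      rw [e1, e2]
      split <;> simp
    · simp only [genMat, Matrix.of_apply]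
      rw [dif_neg h]
      exact aeval_X _ _

theorem card_chartVar {s : Fin k → Fin n} (hs : Function.Injective s) :
    Nat.card (ChartVar s) = k * (n - k) := by
  classical
  rw [Nat.card_eq_fintype_card, Fintype.card_prod, Fintype.card_subtype_compl, Fintype.card_fin, Fintype.card_fin,
    Set.card_range_of_injective hs, Fintype.card_fin]

theorem nonempty_chartEquiv_fin {s : Fin k → Fin n} (hs : Function.Injective s) :
    Nonempty (chartAlg R s ≃ₐ[R] MvPolynomial (ULift.{u} (Fin (k * (n - k)))) R) :=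
  (nonempty_chartEquiv hs).map fun E => E.trans (renameEquiv R
    ((Finite.equivFin (ChartVar s)).trans ((finCongr (card_chartVar hs)).trans Equiv.ulift.symm)))

theorem smooth_chartAlg {s : Fin k → Fin n} (hs : Function.Injective s) :
    Algebra.IsStandardSmoothOfRelativeDimension (k * (n - k)) R (chartAlg R s) := by
  classical
  let v : Fin k × Fin k → MvPolynomial (Fin k × Fin n) R := fun p => X (p.1, s p.2) - if p.1 = p.2 then 1 else 0
  let a : Fin k × Fin k → Fin k × Fin n := fun p => (p.1, s p.2)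
  have ha : Function.Injective a := fun p q h => Prod.ext (Prod.ext_iff.1 h).1 (hs (Prod.ext_iff.1 h).2)
  let P := Algebra.PreSubmersivePresentation.naive (R := R) (v := v) a ha
  have hP : P.jacobiMatrix = 1 := by
    ext i j
    rw [Algebra.PreSubmersivePresentation.jacobiMatrix_naive, Matrix.one_apply]
    simp only [v, map_sub, pderiv_X, Pi.single_apply, ha.eq_iff, a]
    rcases em (j.1 = j.2) with h | h <;> simp [h, ha.eq_iff, eq_comm]
  have hu : IsUnit P.jacobian := by
    rw [Algebra.PreSubmersivePresentation.jacobian_eq_jacobiMatrix_det, hP]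
    simp
  let Q : Algebra.SubmersivePresentation R _ (Fin k × Fin n) (Fin k × Fin k) :=
    { P with jacobian_isUnit := hu }
  refine Q.isStandardSmoothOfRelativeDimension ?_
  show Nat.card (Fin k × Fin n) - Nat.card (Fin k × Fin k) = _
  simp [Nat.mul_sub]

theorem chartSch_iso_affineSpace {s : Fin k → Fin n} (hs : Function.Injective s) :
    Nonempty (chartSch R s ≅
      Over.mk (𝔸(ULift.{u} (Fin (k * (n - k))); Spec (CommRingCat.of R)) ↘ Spec (CommRingCat.of R))) := by
  obtain ⟨E⟩ := nonempty_chartEquiv_fin (R := R) hs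
  refine ⟨Over.isoMk (Scheme.Spec.mapIso E.symm.toRingEquiv.toCommRingCatIso.op ≪≫
    (AffineSpace.SpecIso _ (CommRingCat.of R)).symm) ?_⟩
  show (Spec.map E.symm.toRingEquiv.toCommRingCatIso.hom ≫ _) ≫ _ = Spec.map _
  rw [Category.assoc]
  erw [AffineSpace.SpecIso_inv_over]
  rw [← Spec.map_comp]
  congr 1
  exact CommRingCat.hom_ext (RingHom.ext fun r => E.symm.commutes r)

theorem smooth_grassSch : SmoothOfRelativeDimension (k * (n - k)) (grassSch R n k).hom := by
  refine (IsZariskiLocalAtSource.iff_of_openCover (P := @SmoothOfRelativeDimension (k * (n - k)))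
    (grassData R n k).openCover).2 fun s => ?_
  show SmoothOfRelativeDimension (k * (n - k)) ((chartIncl R s).left ≫ (grassSch R n k).hom)
  rw [Over.w]
  refine (HasRingHomProperty.Spec_iff (P := @SmoothOfRelativeDimension (k * (n - k)))).2 ?_
  refine RingHom.locally_of (RingHom.isStandardSmoothOfRelativeDimension_respectsIso) _ ?_
  exact (RingHom.isStandardSmoothOfRelativeDimension_algebraMap _).2 (smooth_chartAlg s.down.2)

theorem smooth_cover_of_representing (X : Over (Spec (CommRingCat.of R)))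
    (e : ∀ A : CommAlgCat.{u} R, (SpA A ⟶ X) ≃ (Module.Grassmannian.functor (R := R) (M := Fin n → R) k).obj A)
    (he : ∀ (A B : CommAlgCat.{u} R) (φ : A ⟶ B) (g : SpA A ⟶ X) (g' : SpA B ⟶ X),
      g'.left = Spec.map (CommRingCat.ofHom φ.hom.toRingHom) ≫ g.left →
        e B g' = (Module.Grassmannian.functor (R := R) (M := Fin n → R) k).map φ (e A g)) :
    SmoothOfRelativeDimension (k * (n - k)) X.hom ∧
      ∃ (ι : Type) (_ : Finite ι) (U : ι → X.left.Opens), ⨆ i, U i = ⊤ ∧
        ∀ i, Nonempty (Over.mk ((U i).ι ≫ X.hom) ≅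
          Over.mk (𝔸(ULift.{u} (Fin (k * (n - k))); Spec (CommRingCat.of R)) ↘ Spec (CommRingCat.of R))) := by
  obtain ⟨I, -⟩ := iso_of_representing (fun {A B} φ => (Module.Grassmannian.functor (R := R) (M := Fin n → R) k).map φ)
    e (pointsEquiv R n k) he pointsEquiv_natural
  haveI : IsIso I.hom.left := ((Over.forget _).mapIso I).isIso_hom
  haveI : IsIso I.inv.left := ((Over.forget _).mapIso I.symm).isIso_hom
  refine ⟨?_, {s : Fin k → Fin n // Function.Injective s}, inferInstance,
    fun s => ((chartIncl R (n := n) ⟨s⟩).left ≫ I.inv.left).opensRange, ?_, fun s => ?_⟩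
  · rw [← Over.w I.hom]
    exact (MorphismProperty.cancel_left_of_respectsIso (@SmoothOfRelativeDimension (k * (n - k))) _ _).2
      smooth_grassSch
  · refine eq_top_iff.2 fun x _ => ?_
    obtain ⟨⟨s⟩, y, hy⟩ := (grassData R n k).ι_jointly_surjective (I.hom.left.base x)
    refine TopologicalSpace.Opens.mem_iSup.2 ⟨s, y, ?_⟩
    show I.inv.left.base ((grassData R n k).ι ⟨s⟩ |>.base y) = x
    rw [hy]
    exact congr(($(congrArg CommaMorphism.left I.hom_inv_id)).base x)
  · obtain ⟨J⟩ := chartSch_iso_affineSpace (R := R) s.2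
    let f : chartSch R s.1 ⟶ X := chartIncl R (n := n) ⟨s⟩ ≫ I.inv
    haveI : IsOpenImmersion f.left :=
      inferInstanceAs (IsOpenImmersion ((chartIncl R (n := n) ⟨s⟩).left ≫ I.inv.left))
    refine ⟨(Over.isoMk f.left.isoOpensRange ?_).symm ≪≫ J⟩
    show f.left.isoOpensRange.hom ≫ f.left.opensRange.ι ≫ X.hom = (chartSch R s.1).hom
    rw [Scheme.Hom.isoOpensRange_hom_ι_assoc]
    exact Over.w f

end Groth.Agent.GrassRep
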